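import Cfsg.Agent.CoThreeStd.Core.Cen
import Cfsg.Agent.CoThreeStd.OddCent
import Cfsg.Agent.CoThreeStd.OutCtx
import Cfsg.Agent.CoThreeStd.GammaEnd

/-!
# S1750: `MFacts` for `M₁₂`, inner and outer case (helper122)
-/

set_option autoImplicit false

namespace Cfsg.Agent.CoThreeStd.Core

open Cfsg.Agent.CoThreeStd.MTwelve Cfsg.Agent.CoThreeStd.OutAut

/-- inner automorphisms of `M₁₂` -/
def Ain (τ : H ≃* H) : Prop := ∃ m, ∀ x, τ x = m * x * m⁻¹

/-- inner automorphisms of `M₁₂` and those in the coset of `alpha` -/
def Aall (τ : H ≃* H) : Prop := Ain τ ∨ ∃ m, ∀ x, τ x = m * alpha x * m⁻¹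

theorem Ain.all {τ : H ≃* H} (h : Ain τ) : Aall τ := Or.inl h

theorem mfacts_all : MFacts Aall where
  center := fun m h => Gamma.center_trivial m h
  sq := by
    rintro τ (⟨m, h⟩ | ⟨m, h⟩)
    · exact ⟨m * m, fun x => by rw [h, h]; group⟩
    · refine ⟨m * alpha m, fun x => ?_⟩
      rw [h, h, map_mul, map_mul, map_inv, alpha_alpha]
      group
  bal := by
    rintro τ (⟨m, h⟩ | ⟨m, h⟩) h2 hne Y hY hfix hn
    · have hmm : m * m = 1 := by
        apply Gamma.center_trivial
        intro x
        have := h2 x
        rw [h, h] at this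
        calc m * m * x = m * (m * x * m⁻¹) * m⁻¹ * (m * m) := by group
          _ = _ := by rw [this]
      have hm1 : m ≠ 1 := by
        rintro rfl
        obtain ⟨x, hx⟩ := hne
        apply hx
        rw [h]; group
      apply OddCent.odd_cent hmm hm1 Y hY
      · intro x hx
        have := hfix x hx
        rw [h] at this
        calc x * m = (m * x * m⁻¹) * m := by rw [this]
          _ = m * x := by group
      · intro g hg x hx
        apply hn g _ x hx
        rw [h, ← hg]
        group
    · have hmm : alpha m * m = 1 := by
        have h3 : m * alpha m = 1 := by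
          apply Gamma.center_trivial
          intro x
          have := h2 x
          rw [h, h, map_mul, map_mul, map_inv, alpha_alpha] at this
          calc m * alpha m * x = m * (alpha m * x * (alpha m)⁻¹) * m⁻¹ * (m * alpha m) := by group
            _ = _ := by rw [this]
        have h4 : alpha m = m⁻¹ := (inv_eq_of_mul_eq_one_right h3).symm
        rw [h4, inv_mul_cancel]
      have hm' : alpha m⁻¹ * m⁻¹ = 1 := by
        have : m * alpha m = 1 := by
          rw [mul_eq_one_iff_eq_inv] at hmm ⊢
          rw [hmm, inv_inv]
        rw [map_inv, ← mul_inv_rev, this, inv_one]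
      apply OddCent.odd_outer hm' Y hY
      · intro x hx
        have := hfix x hx
        rw [h] at this
        rwa [inv_inv]
      · intro g hg x hx
        apply hn g _ x hx
        rw [h]
        rwa [inv_inv] at hg

theorem mfacts_in : MFacts Ain where
  center := mfacts_all.center
  sq := fun τ h => mfacts_all.sq τ h.all
  bal := fun τ h => mfacts_all.bal τ h.all

end Cfsg.Agent.CoThreeStd.Core
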