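import Cfsg.Agent.CoThreeStd.Core.SecPD
import Cfsg.Agent.CoThreeStd.Core.MF
import Cfsg.Agent.CoThreeStd.Core.GammaPD
import Cfsg.Agent.CoThreeStd.Delta
import Cfsg.Agent.CoThreeStd.InvTwo
import Cfsg.Agent.CoThreeStd.FactsLift
import Cfsg.Agent.CoThreeStd.HInst
import Cfsg.Agent.CoThreeStd.CloseH

/-!
# S1750: from the centraliser `C_G(t) = D × ⟨t⟩ × M₁₂` (core `D`) to `G = Co₃` (helper122)
-/

set_option autoImplicit false

namespace Cfsg.Agent.CoThreeStd.Core

open Cfsg Cfsg.Agent.CoThreeStd.MTwelve Cfsg.Agent.CoThreeStd.Fusion Cfsg.Agent.CoThreeStd.InvTwo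
  Cfsg.Agent.LeechPack.X552 Cfsg.Agent.CoThreeStd.Model Cfsg.Agent.CoThreeStd.Parity

universe u

/-- Parts [A] and [B]: the group generated by `C(t)` and `g₀` is `Co₃`. -/
def BetaIso : Prop :=
  ∀ {Γ : Type u} [Group Γ] [Finite Γ] {t : Γ} {ι : H →* Γ} (_ : Ctx t ι) {g0 : Γ}
    (_ : g0 * t * g0⁻¹ = ι y) (_ : g0 * ι y * g0⁻¹ = t * ι y),
    ∃ φ : G3 →* Γ, Function.Injective φ ∧ φ (m 0) = t ∧ ∀ g, g * t = t * g → g ∈ φ.range

section exact

variable {Γ : Type u} [Group Γ] {t : Γ} {ι : H →* Γ}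

/-- the 2A-involutions are conjugate to `t` -/
theorem conj_y [Finite Γ] {inner 𝒟 : Γ → Prop} (P : PD t inner 𝒟) (hin : ∀ m, inner (t * ι m))
    (c : Ctx t ι) : IsConj t (ι y) := by
  by_contra h2
  have hB := conj_t_mul_b P hin c inv2 isB_pr
  by_cases h1 : IsConj t (t * ι y)
  · exact Gamma.gamma_false_pd P c h1 h2 (not_conj_b c inv2 isB_pr)
  · exact Delta.delta_false c hB h2 h1

theorem nd_pr {K : Type*} [Group K] {t0 j : K} {φ : K →* Γ} (c : Ctx t ι) (hφ : Function.Injective φ)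
    (h0 : φ t0 = t) (hj : φ j = ι (p * r)) : HFacts.Nd t0 j := by
  refine ⟨?_, ?_, ?_⟩
  · apply hφ
    rw [map_mul, hj, ← map_mul, pr_sq, map_one, map_one]
  · intro h1
    rw [h1, map_one] at hj
    exact pr_ne (c.inj (by rw [← hj, map_one]))
  · intro h1
    have h2 := MonoidHom.map_isConj φ h1
    rw [hj, h0] at h2
    exact not_conj_b c inv2 isB_pr h2

theorem conj_of_nd {K : Type*} [Group K] (F : HFacts.Facts K) {a b : K} (ha : HFacts.Nd F.t a)
    (hb : HFacts.Nd F.t b) : IsConj a b := by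
  obtain ⟨u, hu⟩ := F.F0 a ha
  obtain ⟨w, hw⟩ := F.F0 b hb
  refine (isConj_iff.2 ⟨u⁻¹, by rw [inv_inv]; exact hu⟩ : IsConj a F.v).trans ?_
  exact (isConj_iff.2 ⟨w⁻¹, by rw [inv_inv]; exact hw⟩ : IsConj b F.v).symm

/-- `Γ = Co₃` -/
theorem exists_equiv [Finite Γ] (hβ : BetaIso.{u}) {inner 𝒟 : Γ → Prop} (P : PD t inner 𝒟)
    (hin : ∀ m, inner (t * ι m)) (c : Ctx t ι) : ∃ e : G3 ≃* Γ, e (m 0) = t := by
  have hB : ∀ b, InvTwo.IsB b → IsConj t (t * ι b) := fun b hb => conj_t_mul_b P hin c inv2 hb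
  obtain ⟨g0, h1, h2⟩ := exists_three c inv2 hB isA_y (conj_y P hin c)
  obtain ⟨φ, hφ, h0, hr⟩ := hβ c h1 h2
  have htop : φ.range = ⊤ := by
    apply CloseH.range_eq_top HInst.facts φ hφ
    · intro g hg
      rw [HInst.facts_t, h0] at hg
      exact hr g hg
    · intro k hk
      rw [HInst.facts_t, h0] at hk
      by_contra hne
      obtain ⟨j, hj⟩ := hr (ι (p * r)) (c.comm _)
      have hkk : k * k = 1 := by
        apply hφ
        obtain ⟨g, hg⟩ := isConj_iff.1 hk
        rw [map_mul, map_one, ← hg]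
        calc g * t * g⁻¹ * (g * t * g⁻¹) = g * (t * t) * g⁻¹ := by group
          _ = 1 := by rw [c.tt]; group
      have hk1 : k ≠ 1 := by
        rintro rfl
        rw [map_one, isConj_one_left] at hk
        exact c.t_ne hk
      have hndj : HFacts.Nd HInst.facts.t j := nd_pr c hφ (by rw [HInst.facts_t, h0]) hj
      have h3 := MonoidHom.map_isConj φ (conj_of_nd HInst.facts ⟨hkk, hk1, hne⟩ hndj)
      have h4 := hk.trans h3
      rw [hj] at h4
      exact not_conj_b c inv2 isB_pr h4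
  exact ⟨MulEquiv.ofBijective φ ⟨hφ, MonoidHom.range_eq_top.1 htop⟩, h0⟩

end exact

section core

variable {G : Type u} [Group G] {t : G} {ι : H →* G} {D : Subgroup G} {Γ : Type u} [Group Γ]
  {π : Subgroup.normalizer (D : Set G) →* Γ}

/-- `C_G(t) = D × ⟨t⟩ × ι M` -/
theorem cent_form (h : Cen Ain t ι D) {g : G} (hg : g * t = t * g) :
    ∃ d ∈ D, ∃ m, g = d * ι m ∨ g = d * (t * ι m) := by
  obtain ⟨τ, ⟨m, hm⟩, hτ⟩ := h.act g hg
  have h1 : ∀ x, g * ι m⁻¹ * ι x = ι x * (g * ι m⁻¹) := by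
    intro x
    have key : ∀ z, g * ι z = ι (m * z * m⁻¹) * g := by
      intro z
      rw [← hm, ← hτ]
      group
    calc g * ι m⁻¹ * ι x = g * ι (m⁻¹ * x) := by rw [mul_assoc, ← map_mul]
      _ = ι (x * m⁻¹) * g := by rw [key]; congr 2; group
      _ = ι x * (ι (m * m⁻¹ * m⁻¹) * g) := by
        rw [mul_inv_cancel, one_mul, ← mul_assoc, ← map_mul]
      _ = _ := by rw [← key]
  have h2 : g * ι m⁻¹ * t = t * (g * ι m⁻¹) := by
    rw [mul_assoc, h.comm, ← mul_assoc, hg, mul_assoc]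
  have e1 : ι m⁻¹ * ι m = 1 := by rw [← map_mul, inv_mul_cancel, map_one]
  rcases h.ker _ h2 h1 with h3 | h3
  · exact ⟨_, h3, m, Or.inl (by rw [mul_assoc, e1, mul_one])⟩
  · refine ⟨_, h3, m, Or.inr ?_⟩
    rw [← h2]
    calc g = g * (ι m⁻¹ * ι m) * (t * t) := by rw [e1, h.tt, mul_one, mul_one]
      _ = g * ι m⁻¹ * (ι m * t) * t := by simp only [mul_assoc]
      _ = g * ι m⁻¹ * (t * ι m) * t := by rw [h.comm]
      _ = g * ι m⁻¹ * t * (ι m * t) := by simp only [mul_assoc]
      _ = _ := by rw [h.comm]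

theorem ctx_sec (h : Cen Ain t ι D) (S : Sec D _ π) : Ctx (π h.tH) (π.comp h.ιH) where
  inj := by
    rw [injective_iff_map_eq_one]
    intro m hm
    exact h.eq_one_of_mem mfacts_in ((S.ker _).1 hm)
  tt := by
    rw [← map_mul]
    have : h.tH * h.tH = 1 := Subtype.ext h.tt
    rw [this, map_one]
  t_ne := fun h1 => h.t_notMem ((S.ker _).1 h1)
  comm := by
    intro m
    rw [MonoidHom.comp_apply, ← map_mul, ← map_mul]
    congr 1
    exact Subtype.ext (h.comm m)
  nmem := by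
    intro m h1
    rw [MonoidHom.comp_apply, S.eq_iff] at h1
    apply h.eq_one_of_mem_t mfacts_in (m := m⁻¹)
    rw [← h.comm, map_inv]
    exact h1
  cent := by
    intro x hx
    obtain ⟨k, hk, rfl⟩ := h.lift_comm S (a := h.tH) h.tt hx
    obtain ⟨d, hd, m, h1⟩ := cent_form h hk
    refine ⟨m, ?_⟩
    rcases h1 with h1 | h1
    · left
      rw [MonoidHom.comp_apply, eq_comm, S.eq_iff, h1]
      show (ι m)⁻¹ * (d * ι m) ∈ D
      have : (ι m)⁻¹ * (d * ι m) = d := by rw [h.DM d hd, inv_mul_cancel_left]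
      rwa [this]
    · right
      rw [MonoidHom.comp_apply, ← map_mul, eq_comm, S.eq_iff, h1]
      show (t * ι m)⁻¹ * (d * (t * ι m)) ∈ D
      have : (t * ι m)⁻¹ * (d * (t * ι m)) = d := by
        have h3 := h.Dt d hd
        have h4 := h.DM d hd m
        calc (t * ι m)⁻¹ * (d * (t * ι m)) = (t * ι m)⁻¹ * (d * t * ι m) := by group
          _ = (t * ι m)⁻¹ * (t * (d * ι m)) := by rw [h3]; group
          _ = (t * ι m)⁻¹ * (t * ι m * d) := by rw [h4]; group
          _ = d := by group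
      rwa [this]

/-- the section `N_G(D)/D` -/
theorem sec_mk (D : Subgroup G) : Sec D (Subgroup.normalizer (D : Set G))
    (QuotientGroup.mk' (D.subgroupOf (Subgroup.normalizer (D : Set G)))) where
  surj := QuotientGroup.mk'_surjective _
  ker := by
    intro k
    show ((k : _ ⧸ D.subgroupOf (Subgroup.normalizer (D : Set G)))) = 1 ↔ _
    rw [QuotientGroup.eq_one_iff, Subgroup.mem_subgroupOf]

/-- **`G = Co₃` in the inner case.** -/
theorem isoCo3_of_cen [Finite G] [IsSimpleGroup G] (hG : ∀ K : Subgroup G, K.index ≠ 2)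
    (hβ : BetaIso.{u}) (h : Cen Ain t ι D) : Spor.IsoCo3 G := by
  classical
  set π := QuotientGroup.mk' (D.subgroupOf (Subgroup.normalizer (D : Set G))) with hπ
  have S : Sec D _ π := sec_mk D
  have c := ctx_sec h S
  have P := h.pd hG mfacts_in S
  have hin : ∀ m, h.inn π (π h.tH * (π.comp h.ιH) m) := fun m => ⟨m, Or.inr rfl⟩
  obtain ⟨e, he⟩ := exists_equiv hβ P hin c
  -- the facts for `N_G(D)`
  set π' : Subgroup.normalizer (D : Set G) →* G3 := e.symm.toMonoidHom.comp π with hπ'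
  have hsurj : Function.Surjective π' := e.symm.surjective.comp S.surj
  have hker : ∀ k, π' k = 1 ↔ (k : G) ∈ D := by
    intro k
    rw [← S.ker]
    show e.symm (π k) = 1 ↔ _
    rw [EmbeddingLike.map_eq_one_iff]
  have hodd : Odd (Nat.card π'.ker) := by
    apply odd_card_of
    intro x
    rw [← Subgroup.orderOf_coe, ← Subgroup.orderOf_coe]
    exact odd_orderOf h.odd ((hker _).1 x.2)
  have htt : h.tH * h.tH = 1 := Subtype.ext h.tt
  have ht' : π' h.tH = HInst.facts.t := by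
    show e.symm (π h.tH) = _
    rw [HInst.facts_t, ← he, e.symm_apply_apply]
  obtain ⟨F', hF'⟩ := FactsLift.exists_facts hsurj hodd HInst.facts htt ht'
  have htop : (Subgroup.subtype (Subgroup.normalizer (D : Set G))).range = ⊤ := by
    apply CloseH.range_eq_top F' _ (Subgroup.subtype_injective _)
    · intro g hg
      rw [hF'] at hg
      exact ⟨⟨g, h.le_normalizer hg⟩, rfl⟩
    · intro k hk
      rw [hF'] at hk ⊢
      by_contra hne
      have hkk : k * k = 1 := Subtype.ext (h.sq_of_isConj hk)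
      have hk1 : k ≠ 1 := by
        rintro rfl
        obtain ⟨g, hg⟩ := isConj_iff.1 hk
        change g * t * g⁻¹ = 1 at hg
        rw [mul_inv_eq_one, mul_eq_left] at hg
        exact h.t_ne hg
      set s := h.ιH (p * r) with hs
      have hss : s * s = 1 := by rw [hs, ← map_mul, pr_sq, map_one]
      have hns : ¬ IsConj h.tH s := by
        intro h1
        have h2 := MonoidHom.map_isConj π h1
        exact not_conj_b c inv2 isB_pr h2
      have hs1 : s ≠ 1 := by
        intro h1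
        apply pr_ne
        apply h.inj
        rw [map_one]
        exact congrArg Subtype.val h1
      have h2 := conj_of_nd F' (a := k) (b := s) (by rw [hF']; exact ⟨hkk, hk1, hne⟩)
        (by rw [hF']; exact ⟨hss, hs1, hns⟩)
      have h3 := MonoidHom.map_isConj (Subgroup.subtype (Subgroup.normalizer (D : Set G))) h2
      obtain ⟨g, hg⟩ := isConj_iff.1 (hk.trans h3)
      have hgN : g ∈ Subgroup.normalizer (D : Set G) :=
        h.balance mfacts_in ⟨p * r, Or.inl hg⟩
      exact hns (isConj_iff.2 ⟨⟨g, hgN⟩, Subtype.ext hg⟩)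
  rw [Subgroup.range_subtype] at htop
  have hnormal : D.Normal := Subgroup.normalizer_eq_top_iff.1 htop
  have hD : D = ⊥ := by
    rcases hnormal.eq_bot_or_eq_top with h1 | h1
    · exact h1
    · exfalso
      apply h.t_notMem
      rw [h1]
      trivial
  have hinj : Function.Injective π := by
    rw [injective_iff_map_eq_one]
    intro k hk
    have h1 := (S.ker k).1 hk
    have h2 : (k : G) ∈ (⊥ : Subgroup G) := hD ▸ h1
    exact Subtype.ext (Subgroup.mem_bot.1 h2)
  obtain ⟨e3⟩ := isoCo3_G3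
  have e1 : G ≃* Subgroup.normalizer (D : Set G) :=
    Subgroup.topEquiv.symm.trans (MulEquiv.subgroupCongr htop.symm)
  exact ⟨e1.trans ((MulEquiv.ofBijective π ⟨hinj, S.surj⟩).trans (e.symm.trans e3))⟩

end core

end Cfsg.Agent.CoThreeStd.Core
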