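import Mathlib

/-!
# S1750: the centraliser `C_G(t)` with its core `D` (helper122)

`Cen 𝒜 t ι D`: `D` odd, `D` commutes with `t` and `ι M`, `C_G(t)` normalises `ι M` (inducing automorphisms in
`𝒜`), and `C_G(t) ∩ C(ι M) = D⟨t⟩`. `Cen.balance`: if `t^g ∈ ⟨t⟩ ι M`, then `g` normalises `D`.
-/

set_option autoImplicit false

namespace Cfsg.Agent.CoThreeStd.Core

variable {G M : Type*} [Group G] [Group M]

/-- The centraliser of `t` with its core `D`. -/
structure Cen (𝒜 : (M ≃* M) → Prop) (t : G) (ι : M →* G) (D : Subgroup G) : Prop where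
  inj : Function.Injective ι
  tt : t * t = 1
  t_ne : t ≠ 1
  comm : ∀ m, ι m * t = t * ι m
  Dt : ∀ d ∈ D, d * t = t * d
  DM : ∀ d ∈ D, ∀ m, d * ι m = ι m * d
  odd : Odd (Nat.card D)
  act : ∀ g, g * t = t * g → ∃ τ : M ≃* M, 𝒜 τ ∧ ∀ m, g * ι m * g⁻¹ = ι (τ m)
  ker : ∀ g, g * t = t * g → (∀ m, g * ι m = ι m * g) → g ∈ D ∨ t * g ∈ D

/-- The facts about `M` and the automorphisms in `𝒜` used for the balance. -/
structure MFacts (𝒜 : (M ≃* M) → Prop) : Prop where
  center : ∀ m : M, (∀ x, m * x = x * m) → m = 1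
  sq : ∀ τ, 𝒜 τ → ∃ m : M, ∀ x, τ (τ x) = m * x * m⁻¹
  bal : ∀ τ, 𝒜 τ → (∀ x, τ (τ x) = x) → (∃ x, τ x ≠ x) → ∀ Y : Subgroup M, Odd (Nat.card Y) →
    (∀ m ∈ Y, τ m = m) → (∀ n, τ n = n → ∀ y ∈ Y, n * y * n⁻¹ ∈ Y) → Y = ⊥

/-- elements of odd groups -/
theorem odd_orderOf {D : Subgroup G} (hD : Odd (Nat.card D)) {d : G} (hd : d ∈ D) : Odd (orderOf d) := by
  have h1 : orderOf (⟨d, hd⟩ : D) = orderOf d := Subgroup.orderOf_mk d hd
  rw [← h1]
  exact hD.of_dvd_nat (orderOf_dvd_natCard _)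

/-- an element of odd order with square 1 is trivial -/
theorem eq_one_of_sq {d : G} (h : Odd (orderOf d)) (h2 : d * d = 1) : d = 1 := by
  have h3 : orderOf d ∣ 2 := orderOf_dvd_of_pow_eq_one (by rw [pow_two, h2])
  rcases (Nat.dvd_prime Nat.prime_two).1 h3 with h4 | h4
  · exact orderOf_eq_one_iff.1 h4
  · rw [h4] at h
    exact absurd h (by decide)

/-- two involutions in the same coset of an odd subgroup `D` are `D`-conjugate -/
theorem conj_of_coset {D : Subgroup G} (hD : Odd (Nat.card D)) {x y : G} (hx : x * x = 1) (hy : y * y = 1)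
    (h : x⁻¹ * y ∈ D) : ∃ d ∈ D, d * x * d⁻¹ = y := by
  have hxi : x⁻¹ = x := inv_eq_of_mul_eq_one_left hx
  have hyi : y⁻¹ = y := inv_eq_of_mul_eq_one_left hy
  rw [hxi] at h
  obtain ⟨k, hk⟩ := odd_orderOf hD h
  set z := x * y with hz
  have hzx : x * z * x⁻¹ = z⁻¹ := by
    rw [hz, mul_inv_rev, hxi, hyi, ← mul_assoc, hx, one_mul]
  have hw : x * z ^ (k + 1) * x⁻¹ = (z ^ (k + 1))⁻¹ := by
    rw [← conj_pow, hzx, inv_pow]
  have hww : z ^ (k + 1) * z ^ (k + 1) = z := by
    rw [← pow_add, show k + 1 + (k + 1) = (2 * k + 1) + 1 by ring, pow_succ, ← hk, pow_orderOf_eq_one,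
      one_mul]
  refine ⟨(z ^ (k + 1))⁻¹, D.inv_mem (D.pow_mem h _), ?_⟩
  rw [inv_inv, ← hw]
  calc x * z ^ (k + 1) * x⁻¹ * x * z ^ (k + 1) = x * (z ^ (k + 1) * z ^ (k + 1)) := by group
    _ = y := by rw [hww, hz, ← mul_assoc, hx, one_mul]

namespace Cen

variable {𝒜 : (M ≃* M) → Prop} {t : G} {ι : M →* G} {D : Subgroup G}

theorem inv_t (h : Cen 𝒜 t ι D) : t⁻¹ = t := inv_eq_of_mul_eq_one_left h.tt

theorem t_notMem (h : Cen 𝒜 t ι D) : t ∉ D := fun ht =>
  h.t_ne (eq_one_of_sq (odd_orderOf h.odd ht) h.tt)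

/-- `D ∩ ι M = 1` -/
theorem eq_one_of_mem (h : Cen 𝒜 t ι D) (F : MFacts 𝒜) {m : M} (hm : ι m ∈ D) : m = 1 := by
  apply F.center
  intro x
  apply h.inj
  rw [map_mul, map_mul]
  exact h.DM _ hm x

theorem eq_one_of_mem_t (h : Cen 𝒜 t ι D) (F : MFacts 𝒜) {m : M} (hm : t * ι m ∈ D) : False := by
  have h1 : m = 1 := by
    apply F.center
    intro x
    apply h.inj
    rw [map_mul, map_mul]
    have h2 := h.DM _ hm x
    apply mul_left_cancel (a := t)
    calc t * (ι m * ι x) = t * ι m * ι x := by group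
      _ = ι x * (t * ι m) := h2
      _ = (ι x * t) * ι m := by group
      _ = t * (ι x * ι m) := by rw [h.comm]; group
  rw [h1, map_one, mul_one] at hm
  exact h.t_notMem hm

/-- `D` is normal in `C(t)` -/
theorem conj_mem (h : Cen 𝒜 t ι D) {g d : G} (hg : g * t = t * g) (hd : d ∈ D) : g * d * g⁻¹ ∈ D := by
  have hgi : g⁻¹ * t = t * g⁻¹ := by
    calc g⁻¹ * t = g⁻¹ * (t * g) * g⁻¹ := by group
      _ = g⁻¹ * (g * t) * g⁻¹ := by rw [hg]
      _ = t * g⁻¹ := by group
  have h1 : g * d * g⁻¹ * t = t * (g * d * g⁻¹) := by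
    calc g * d * g⁻¹ * t = g * d * (g⁻¹ * t) := by group
      _ = g * (d * t) * g⁻¹ := by rw [hgi]; group
      _ = (g * t) * d * g⁻¹ := by rw [h.Dt d hd]; group
      _ = _ := by rw [hg]; group
  obtain ⟨τ, -, hτ⟩ := h.act g hg
  have h2 : ∀ m, g * d * g⁻¹ * ι m = ι m * (g * d * g⁻¹) := by
    intro m
    obtain ⟨n, rfl⟩ := τ.surjective m
    rw [← hτ n]
    calc g * d * g⁻¹ * (g * ι n * g⁻¹) = g * (d * ι n) * g⁻¹ := by group
      _ = g * (ι n * d) * g⁻¹ := by rw [h.DM d hd]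
      _ = _ := by group
  rcases h.ker _ h1 h2 with h3 | h3
  · exact h3
  · exfalso
    -- `t e ∈ D` with `e` of odd order
    have hodd : Odd (orderOf (g * d * g⁻¹)) := by
      have : orderOf (g * d * g⁻¹) = orderOf d := by
        have := MulEquiv.orderOf_eq (MulAut.conj g) d
        simpa using this
      rw [this]
      exact odd_orderOf h.odd hd
    set e := g * d * g⁻¹ with he
    have h4 := odd_orderOf h.odd h3
    apply h.t_notMem
    have hc : Commute t e := h1.symm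
    have h5 : (t * e) ^ orderOf e = t := by
      rw [hc.mul_pow, pow_orderOf_eq_one, mul_one]
      obtain ⟨k, hk⟩ := hodd
      rw [hk, pow_succ, pow_mul, pow_two, h.tt, one_pow, one_mul]
    rw [← h5]
    exact D.pow_mem h3 _

theorem le_normalizer (h : Cen 𝒜 t ι D) {g : G} (hg : g * t = t * g) :
    g ∈ Subgroup.normalizer (D : Set G) := by
  rw [Subgroup.mem_normalizer_iff]
  intro d
  constructor
  · exact fun hd => h.conj_mem hg hd
  · intro hd
    have hgi : g⁻¹ * t = t * g⁻¹ := by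
      calc g⁻¹ * t = g⁻¹ * (t * g) * g⁻¹ := by group
        _ = g⁻¹ * (g * t) * g⁻¹ := by rw [hg]
        _ = t * g⁻¹ := by group
    have := h.conj_mem hgi hd
    have e : g⁻¹ * (g * d * g⁻¹) * g⁻¹⁻¹ = d := by group
    rwa [e] at this

/-- elements of odd order of `C(t)` are in `D × ι M` -/
theorem odd_form (h : Cen 𝒜 t ι D) (F : MFacts 𝒜) {e : G} (he : e * t = t * e) (ho : Odd (orderOf e)) :
    ∃ d ∈ D, ∃ m, e = d * ι m := by
  obtain ⟨τ, hA, hτ⟩ := h.act e he
  obtain ⟨m0, hm0⟩ := F.sq τ hA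
  obtain ⟨k, hk⟩ := ho
  have h1 : ∀ x, (e * e) * ι x * (e * e)⁻¹ = ι (m0 * x * m0⁻¹) := by
    intro x
    rw [← hm0, ← hτ, ← hτ]
    group
  have h2 : ∀ (j : ℕ) (x : M), (e * e) ^ j * ι x * ((e * e) ^ j)⁻¹ = ι (m0 ^ j * x * (m0 ^ j)⁻¹) := by
    intro j
    induction j with
    | zero => intro x; simp
    | succ j ih =>
      intro x
      rw [pow_succ', pow_succ']
      calc e * e * (e * e) ^ j * ι x * (e * e * (e * e) ^ j)⁻¹
          = e * e * ((e * e) ^ j * ι x * ((e * e) ^ j)⁻¹) * (e * e)⁻¹ := by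
            rw [mul_inv_rev (e * e)]; simp only [mul_assoc]
        _ = _ := by rw [ih, h1]; congr 1; group
  have h3 : (e * e) ^ (k + 1) = e := by
    rw [← pow_two, ← pow_mul, show 2 * (k + 1) = (2 * k + 1) + 1 by ring, pow_succ, ← hk,
      pow_orderOf_eq_one, one_mul]
  set m1 := m0 ^ (k + 1) with hm1
  have h4 : ∀ x, e * ι x * e⁻¹ = ι (m1 * x * m1⁻¹) := by
    intro x
    have := h2 (k + 1) x
    rwa [h3] at this
  have key : ∀ y, e * ι y = ι (m1 * y * m1⁻¹) * e := by
    intro y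
    rw [← h4]
    group
  have h5 : ∀ x, e * ι m1⁻¹ * ι x = ι x * (e * ι m1⁻¹) := by
    intro x
    calc e * ι m1⁻¹ * ι x = e * ι (m1⁻¹ * x) := by rw [mul_assoc, ← map_mul]
      _ = ι (x * m1⁻¹) * e := by rw [key]; congr 2; group
      _ = ι x * (ι (m1 * m1⁻¹ * m1⁻¹) * e) := by
        rw [mul_inv_cancel, one_mul, ← mul_assoc, ← map_mul]
      _ = _ := by rw [← key]
  have h6 : e * ι m1⁻¹ * t = t * (e * ι m1⁻¹) := by
    rw [mul_assoc, h.comm, ← mul_assoc, he, mul_assoc]
  rcases h.ker _ h6 h5 with h7 | h7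
  · refine ⟨_, h7, m1, ?_⟩
    rw [mul_assoc, ← map_mul, inv_mul_cancel, map_one, mul_one]
  · exfalso
    set d := t * (e * ι m1⁻¹) with hd
    have e1 : e = t * (d * ι m1) := by
      rw [hd]
      have e3 : ι m1⁻¹ * ι m1 = 1 := by rw [← map_mul, inv_mul_cancel, map_one]
      calc e = (t * t) * e * (ι m1⁻¹ * ι m1) := by rw [h.tt, e3, one_mul, mul_one]
        _ = _ := by group
    have c1 : Commute t (d * ι m1) := (show Commute d t from h.Dt d h7).symm.mul_right (show Commute (ι m1) t from h.comm m1).symm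
    have c2 : Commute d (ι m1) := h.DM d h7 m1
    have e2 : e ^ (2 * k + 1) = 1 := by rw [← hk, pow_orderOf_eq_one]
    rw [e1, c1.mul_pow, c2.mul_pow, ← map_pow, pow_succ t, pow_mul, pow_two, h.tt, one_pow, one_mul] at e2
    apply h.eq_one_of_mem_t F (m := m1 ^ (2 * k + 1))
    have e3 : t * ι (m1 ^ (2 * k + 1)) = (d ^ (2 * k + 1))⁻¹ := by
      rw [eq_inv_iff_mul_eq_one]
      have c3 : ι (m1 ^ (2 * k + 1)) * d ^ (2 * k + 1) = d ^ (2 * k + 1) * ι (m1 ^ (2 * k + 1)) :=
        (h.DM _ (D.pow_mem h7 _) _).symm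
      rw [mul_assoc, c3]
      exact e2
    rw [e3]
    exact D.inv_mem (D.pow_mem h7 _)

/-- the key step of the balance -/
theorem le_of_comm [Finite M] (h : Cen 𝒜 t ι D) (F : MFacts 𝒜) {u : G} (hu : u * t = t * u) (huu : u * u = 1)
    (hne : ∃ m, u * ι m ≠ ι m * u) (E : Subgroup G) (hE : Odd (Nat.card E))
    (hEt : ∀ e ∈ E, e * t = t * e) (hEu : ∀ e ∈ E, e * u = u * e)
    (hn : ∀ g, g * t = t * g → g * u = u * g → ∀ e ∈ E, g * e * g⁻¹ ∈ E) : E ≤ D := by
  obtain ⟨τ, hA, hτ⟩ := h.act u hu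
  let Y : Subgroup M :=
    { carrier := {m | ∃ e ∈ E, ∃ d ∈ D, e = d * ι m}
      one_mem' := ⟨1, E.one_mem, 1, D.one_mem, by rw [map_one, mul_one]⟩
      mul_mem' := by
        rintro a b ⟨e, he, d, hd, rfl⟩ ⟨e', he', d', hd', rfl⟩
        refine ⟨_, E.mul_mem he he', d * d', D.mul_mem hd hd', ?_⟩
        rw [map_mul]
        calc d * ι a * (d' * ι b) = d * (ι a * d') * ι b := by group
          _ = d * (d' * ι a) * ι b := by rw [h.DM d' hd']
          _ = _ := by group
      inv_mem' := by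
        rintro a ⟨e, he, d, hd, rfl⟩
        refine ⟨_, E.inv_mem he, d⁻¹, D.inv_mem hd, ?_⟩
        rw [mul_inv_rev, map_inv, ← map_inv]
        exact (h.DM _ (D.inv_mem hd) _).symm }
  have hY : ∀ m, m ∈ Y ↔ ∃ e ∈ E, ∃ d ∈ D, e = d * ι m := fun m => Iff.rfl
  have hbot : Y = ⊥ := by
    apply F.bal τ hA
    · intro x
      apply h.inj
      rw [← hτ, ← hτ]
      calc u * (u * ι x * u⁻¹) * u⁻¹ = (u * u) * ι x * (u * u)⁻¹ := by group
        _ = ι x := by rw [huu]; group
    · obtain ⟨m, hm⟩ := hne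
      refine ⟨m, fun h1 => hm ?_⟩
      have := hτ m
      rw [h1] at this
      calc u * ι m = u * ι m * u⁻¹ * u := by group
        _ = _ := by rw [this]
    · -- `Y` is odd
      by_contra hev
      rw [Nat.not_odd_iff_even, even_iff_two_dvd] at hev
      have : Fact (Nat.Prime 2) := ⟨Nat.prime_two⟩
      obtain ⟨⟨m, hm⟩, hm2⟩ := exists_prime_orderOf_dvd_card' 2 hev
      rw [Subgroup.orderOf_mk] at hm2
      obtain ⟨e, he, d, hd, hed⟩ := (hY m).1 hm
      obtain ⟨k, hk⟩ := odd_orderOf hE he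
      have e2 : e ^ (2 * k + 1) = 1 := by rw [← hk, pow_orderOf_eq_one]
      have c2 : Commute d (ι m) := h.DM d hd m
      have hm3 : m ^ 2 = 1 := by rw [← hm2]; exact pow_orderOf_eq_one m
      rw [hed, c2.mul_pow, ← map_pow, pow_succ m, pow_mul, hm3, one_pow, one_mul] at e2
      have h3 : m = 1 := by
        apply h.eq_one_of_mem F
        have : ι m = (d ^ (2 * k + 1))⁻¹ := (inv_eq_of_mul_eq_one_right e2).symm
        rw [this]
        exact D.inv_mem (D.pow_mem hd _)
      rw [h3, orderOf_one] at hm2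
      exact absurd hm2 (by norm_num)
    · intro m hm
      obtain ⟨e, he, d, hd, hed⟩ := (hY m).1 hm
      have h1 := hEu e he
      have h2 : u * d * u⁻¹ * ι (τ m) = d * ι m := by
        rw [← hτ, ← hed]
        calc u * d * u⁻¹ * (u * ι m * u⁻¹) = u * (d * ι m) * u⁻¹ := by group
          _ = (u * e) * u⁻¹ := by rw [← hed]
          _ = (e * u) * u⁻¹ := by rw [h1]
          _ = e := by group
      have h3 : ι (τ m * m⁻¹) ∈ D := by
        have : ι (τ m * m⁻¹) = (u * d * u⁻¹)⁻¹ * d := by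
          rw [map_mul, map_inv, eq_inv_mul_iff_mul_eq, ← mul_assoc, h2, mul_inv_cancel_right]
        rw [this]
        exact D.mul_mem (D.inv_mem (h.conj_mem hu hd)) hd
      exact mul_inv_eq_one.1 (h.eq_one_of_mem F h3)
    · intro n hn' y hy
      obtain ⟨e, he, d, hd, hed⟩ := (hY y).1 hy
      have h1 : ι n * u = u * ι n := by
        have := hτ n
        rw [hn'] at this
        calc ι n * u = (u * ι n * u⁻¹) * u := by rw [this]
          _ = _ := by group
      refine ⟨_, hn (ι n) (h.comm n) h1 e he, d, hd, ?_⟩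
      rw [hed]
      simp only [map_mul, map_inv]
      calc ι n * (d * ι y) * (ι n)⁻¹ = (ι n * d) * ι y * (ι n)⁻¹ := by group
        _ = (d * ι n) * ι y * (ι n)⁻¹ := by rw [h.DM d hd]
        _ = _ := by group
  intro e he
  obtain ⟨d, hd, m, hed⟩ := h.odd_form F (hEt e he) (odd_orderOf hE he)
  have hm : m ∈ Y := ⟨e, he, d, hd, hed⟩
  rw [hbot, Subgroup.mem_bot] at hm
  rw [hed, hm, map_one, mul_one]
  exact hd

/-- **Balance**: if `t^g ∈ ⟨t⟩ ι M` then `g` normalises `D`. -/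
theorem balance [Finite G] (h : Cen 𝒜 t ι D) (F : MFacts 𝒜) {g : G}
    (hg : ∃ m, g * t * g⁻¹ = ι m ∨ g * t * g⁻¹ = t * ι m) : g ∈ Subgroup.normalizer (D : Set G) := by
  have hfM : Finite M := Finite.of_injective ι h.inj
  set s := g * t * g⁻¹ with hs
  have hst : s * t = t * s := by
    obtain ⟨m, h1 | h1⟩ := hg
    · rw [h1]; exact h.comm m
    · rw [h1, mul_assoc, h.comm]
  have hDs : ∀ d ∈ D, d * s = s * d := by
    intro d hd
    obtain ⟨m, h1 | h1⟩ := hg
    · rw [h1]; exact h.DM d hd m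
    · rw [h1]
      calc d * (t * ι m) = (d * t) * ι m := by group
        _ = t * (d * ι m) := by rw [h.Dt d hd]; group
        _ = _ := by rw [h.DM d hd]; group
  set u := g⁻¹ * t * g with hu
  set E := D.map (MulAut.conj g⁻¹).toMonoidHom with hE
  have hEmem : ∀ e, e ∈ E ↔ g * e * g⁻¹ ∈ D := by
    intro e
    constructor
    · rintro ⟨d, hd, rfl⟩
      show g * (g⁻¹ * d * g⁻¹⁻¹) * g⁻¹ ∈ D
      have : g * (g⁻¹ * d * g⁻¹⁻¹) * g⁻¹ = d := by group
      rwa [this]
    · intro hd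
      refine ⟨_, hd, ?_⟩
      show g⁻¹ * (g * e * g⁻¹) * g⁻¹⁻¹ = e
      group
  have hcard : Nat.card E = Nat.card D := Subgroup.card_map_of_injective (MulAut.conj g⁻¹).injective
  -- `u` centralises `t`
  have hut : u * t = t * u := by
    calc u * t = g⁻¹ * (t * s) * g := by rw [hu, hs]; group
      _ = g⁻¹ * (s * t) * g := by rw [hst]
      _ = t * u := by rw [hu, hs]; group
  have huu : u * u = 1 := by
    calc u * u = g⁻¹ * (t * t) * g := by rw [hu]; group
      _ = 1 := by rw [h.tt]; group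
  by_cases hne : ∃ m, u * ι m ≠ ι m * u
  · have hle : E ≤ D := by
      apply h.le_of_comm F hut huu hne E
      · rw [hcard]; exact h.odd
      · intro e he
        have h1 := hDs _ ((hEmem e).1 he)
        calc e * t = g⁻¹ * ((g * e * g⁻¹) * s) * g := by rw [hs]; group
          _ = g⁻¹ * (s * (g * e * g⁻¹)) * g := by rw [h1]
          _ = t * e := by rw [hs]; group
      · intro e he
        have h1 := h.Dt _ ((hEmem e).1 he)
        calc e * u = g⁻¹ * ((g * e * g⁻¹) * t) * g := by rw [hu]; group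
          _ = g⁻¹ * (t * (g * e * g⁻¹)) * g := by rw [h1]
          _ = u * e := by rw [hu]; group
      · intro k hkt hku e he
        rw [hEmem] at he ⊢
        have h1 : (g * k * g⁻¹) * t = t * (g * k * g⁻¹) := by
          calc (g * k * g⁻¹) * t = g * (k * u) * g⁻¹ := by rw [hu]; group
            _ = g * (u * k) * g⁻¹ := by rw [hku]
            _ = _ := by rw [hu]; group
        have h2 := h.conj_mem h1 he
        have e1 : g * k * g⁻¹ * (g * e * g⁻¹) * (g * k * g⁻¹)⁻¹ = g * (k * e * k⁻¹) * g⁻¹ := by group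
        rwa [e1] at h2
    have hfD : Finite D := inferInstance
    have heq : E = D := Subgroup.eq_of_le_of_card_ge hle (by rw [hcard])
    rw [Subgroup.mem_normalizer_iff]
    intro d
    rw [← hEmem, heq]
  · push Not at hne
    -- `u ∈ {1, t}`
    have h1 : u = t := by
      rcases h.ker u hut hne with h2 | h2
      · exfalso
        have := eq_one_of_sq (odd_orderOf h.odd h2) huu
        apply h.t_ne
        calc t = g * u * g⁻¹ := by rw [hu]; group
          _ = 1 := by rw [this]; group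
      · have h3 : (t * u) * (t * u) = 1 := by
          calc (t * u) * (t * u) = t * (u * t) * u := by group
            _ = (t * t) * (u * u) := by rw [hut]; group
            _ = 1 := by rw [h.tt, huu, one_mul]
        have h4 := eq_one_of_sq (odd_orderOf h.odd h2) h3
        calc u = (t * t) * u := by rw [h.tt, one_mul]
          _ = t * (t * u) := by group
          _ = t := by rw [h4, mul_one]
    apply h.le_normalizer
    calc g * t = g * u := by rw [h1]
      _ = t * g := by rw [hu]; group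

end Cen

end Cfsg.Agent.CoThreeStd.Core
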