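import Cfsg.Agent.CoThreeStd.Core.MF
import Cfsg.Agent.CoThreeStd.AutFacts
import Cfsg.Agent.CoThreeStd.AutTwelve
import Cfsg.Agent.CoThreeStd.Red

/-!
# S1750: from a standard subgroup `L ≃ M₁₂` to the centraliser `C_G(t)` with its core (helper122)
-/

set_option autoImplicit false

namespace Cfsg.Agent.CoThreeStd.Core

open Subgroup Cfsg.Agent.CoThreeStd.MTwelve Cfsg.Agent.CoThreeStd.OutAut Cfsg.Agent.StdAlt.Conj
  Cfsg.Agent.CoThreeStd.Parity

section gen

/-- a group of order `2 * odd` with a central involution -/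
theorem exists_core {C : Type*} [Group C] [Finite C] {t : C} (ht : ∀ x, x * t = t * x) (tt : t * t = 1)
    (t1 : t ≠ 1) (h4 : ¬ 4 ∣ Nat.card C) : ∃ D : Subgroup C, Odd (Nat.card D) ∧ ∀ x, x ∈ D ∨ t * x ∈ D := by
  have hN : (zpowers t).Normal := by
    refine ⟨fun n hn g => ?_⟩
    have : g * n * g⁻¹ = n := by
      have hc : Commute g n := by
        obtain ⟨k, rfl⟩ := hn
        exact (show Commute g t from ht g).zpow_right k
      rw [hc.eq, mul_inv_cancel_right]
    rwa [this]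
  have ho : orderOf t = 2 := orderOf_eq_prime (by rw [pow_two, tt]) t1
  have hc : Nat.card (zpowers t) = 2 := by rw [Nat.card_zpowers, ho]
  have hmul := (zpowers t).card_mul_index
  rw [hc] at hmul
  have hodd : Odd (zpowers t).index := by
    rw [← Nat.not_even_iff_odd, even_iff_two_dvd]
    rintro ⟨k, hk⟩
    apply h4
    rw [← hmul, hk]
    exact ⟨k, by ring⟩
  have hcop : Nat.Coprime (Nat.card (zpowers t)) (zpowers t).index := by
    rw [hc, Nat.coprime_two_left]
    exact hodd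
  obtain ⟨D, hD⟩ := exists_right_complement'_of_coprime hcop
  refine ⟨D, ?_, ?_⟩
  · rw [← hD.symm.index_eq_card]
    exact hodd
  · intro x
    obtain ⟨⟨⟨n, hn⟩, ⟨d, hd⟩⟩, hx⟩ := hD.2 x
    have hx' : n * d = x := hx
    have hn2 : n = 1 ∨ n = t := by
      obtain ⟨k, rfl⟩ := hn
      show t ^ k = 1 ∨ t ^ k = t
      rcases Int.even_or_odd' k with ⟨m, hm | hm⟩
      · left; rw [hm, zpow_mul, zpow_two, tt, one_zpow]
      · right; rw [hm, zpow_add, zpow_mul, zpow_two, tt, one_zpow, one_mul, zpow_one]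
    rcases hn2 with rfl | rfl
    · left; rw [← hx', one_mul]; exact hd
    · right; rw [← hx', ← mul_assoc, tt, one_mul]; exact hd

/-- the involutions of a group of order `2 * odd` are conjugate -/
theorem isConj_of_two {K : Type*} [Group K] [Finite K] (h4 : ¬ 4 ∣ Nat.card K) {a b : K} (ha : a * a = 1)
    (ha1 : a ≠ 1) (hb : b * b = 1) (hb1 : b ≠ 1) : IsConj a b := by
  have : Fact (Nat.Prime 2) := ⟨Nat.prime_two⟩
  have hp : ∀ {x : K}, x * x = 1 → IsPGroup 2 (zpowers x) := by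
    rintro x hx ⟨z, k, hk⟩
    refine ⟨1, Subtype.ext ?_⟩
    show z ^ 2 ^ 1 = 1
    rw [← hk]
    show (x ^ k) ^ 2 ^ 1 = 1
    rw [pow_one, pow_two, ← (Commute.refl x).mul_zpow, hx, one_zpow]
  obtain ⟨P, hP⟩ := (hp ha).exists_le_sylow
  obtain ⟨Q, hQ⟩ := (hp hb).exists_le_sylow
  have hc : Nat.card P ≤ 2 := by
    obtain ⟨n, hn⟩ := IsPGroup.iff_card.1 P.isPGroup'
    have hd : Nat.card P ∣ Nat.card K := Subgroup.card_subgroup_dvd_card _
    by_contra hgt
    have hn2 : 2 ≤ n := by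
      by_contra h
      interval_cases n <;> omega
    apply h4
    refine Dvd.dvd.trans ?_ hd
    rw [hn]
    exact pow_dvd_pow 2 hn2
  obtain ⟨k, hk⟩ := MulAction.exists_smul_eq K Q P
  have hbP : k * b * k⁻¹ ∈ P := by
    rw [← hk]
    exact ⟨b, hQ (mem_zpowers b), rfl⟩
  have haP : a ∈ P := hP (mem_zpowers a)
  have h1 : k * b * k⁻¹ = a := by
    by_contra hne
    have hfP : Finite P := inferInstance
    classical
    have : Fintype P := Fintype.ofFinite _
    have h3 : ({1, ⟨a, haP⟩, ⟨_, hbP⟩} : Finset P).card = 3 := by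
      rw [Finset.card_eq_three]
      refine ⟨1, ⟨a, haP⟩, ⟨_, hbP⟩, ?_, ?_, ?_, rfl⟩
      · intro h; exact ha1 (congrArg Subtype.val h).symm
      · intro h
        apply hb1
        have h5 : (1 : K) = k * b * k⁻¹ := congrArg Subtype.val h
        calc b = k⁻¹ * (k * b * k⁻¹) * k := by group
          _ = 1 := by rw [← h5]; group
      · intro h
        exact hne (congrArg Subtype.val h).symm
    have h6 := Finset.card_le_univ ({1, ⟨a, haP⟩, ⟨_, hbP⟩} : Finset P)
    rw [h3, ← Nat.card_eq_fintype_card] at h6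
    omega
  exact (isConj_iff.2 ⟨k, h1⟩ : IsConj b a).symm

/-- the number of involutions of a group of order `2 * odd` is odd -/
theorem odd_involutions {K : Type*} [Group K] [Finite K] (h4 : ¬ 4 ∣ Nat.card K) {t : K} (tt : t * t = 1)
    (t1 : t ≠ 1) : Odd (Nat.card {x : K // x * x = 1 ∧ x ≠ 1}) := by
  have h1 := card_conj_eq t (fun _ => True)
  have h2 : Nat.card {g : K // True} = Nat.card K := Nat.card_congr (Equiv.subtypeUnivEquiv (fun _ => trivial))
  have h3 : Nat.card {h : K // True ∧ IsConj t h} = Nat.card {x : K // x * x = 1 ∧ x ≠ 1} := by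
    apply Nat.card_congr
    apply Equiv.subtypeEquivRight
    intro m
    rw [true_and]
    constructor
    · intro h
      obtain ⟨g, rfl⟩ := isConj_iff.1 h
      refine ⟨?_, ?_⟩
      · calc g * t * g⁻¹ * (g * t * g⁻¹) = g * (t * t) * g⁻¹ := by group
          _ = 1 := by rw [tt]; group
      · intro h5
        apply t1
        rwa [mul_inv_eq_one, mul_eq_left] at h5
    · rintro ⟨h5, h6⟩
      exact isConj_of_two h4 tt t1 h5 h6
  rw [h2, h3] at h1
  by_contra hev
  rw [Nat.not_odd_iff_even, even_iff_two_dvd] at hev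
  apply h4
  have h5 : 2 ∣ Nat.card (centralizer ({t} : Set K)) := by
    have htc : t ∈ centralizer ({t} : Set K) := mem_centralizer_singleton_iff.2 rfl
    have h6 : orderOf (⟨t, htc⟩ : centralizer ({t} : Set K)) = 2 := by
      rw [orderOf_mk]
      exact orderOf_eq_prime (by rw [pow_two, tt]) t1
    rw [← h6]
    exact orderOf_dvd_natCard _
  rw [h1, show (4 : ℕ) = 2 * 2 by norm_num]
  exact mul_dvd_mul h5 hev

end gen

universe u

/-- **K0**: the centraliser of the involution of `C_G(L)`. -/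
theorem exists_cen {G : Type u} [Group G] [Finite G] [IsSimpleGroup G] (hcomm : StdAlt.First.CommHalf G)
    {L : Subgroup G} (hL : Cfsg.IsStandardSubgroup L) (e : L ≃* H) :
    ∃ (t : G) (ι : H →* G) (D : Subgroup G), Cen Aall t ι D ∧ ∃ s, IsConj t s ∧ s * t = t * s ∧ s ≠ t := by
  classical
  have hF := AutFacts.facts
  have hs : IsSimpleGroup L := (MulEquiv.isSimpleGroup_congr e).2 hF.simple
  have h4 : ¬ 4 ∣ Nat.card (C L) := Red.not_four hcomm hL e hF InvTwo.y_ne y_sq
  have hte := TE.of_standard hL hs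
  have hdvd2 : 2 ∣ Nat.card (C L) := even_iff_two_dvd.1 hL.2.1.1
  obtain ⟨⟨t, htK⟩, ht⟩ := exists_prime_orderOf_dvd_card' 2 hdvd2
  rw [orderOf_mk] at ht
  have t1 : t ≠ 1 := by
    intro e
    rw [e, orderOf_one] at ht
    exact absurd ht (by norm_num)
  have tt : t * t = 1 := by rw [← sq, ← ht]; exact pow_orderOf_eq_one _
  set ι : H →* G := L.subtype.comp e.symm.toMonoidHom with hι
  have hιL : ∀ m, ι m ∈ L := fun m => (e.symm m).2
  have hιe : ∀ a (ha : a ∈ L), ι (e ⟨a, ha⟩) = a := by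
    intro a ha
    show ((e.symm (e ⟨a, ha⟩) : L) : G) = a
    rw [e.symm_apply_apply]
  have hinj : Function.Injective ι := L.subtype_injective.comp e.symm.injective
  have hcK : ∀ x, (∀ m, x * ι m = ι m * x) ↔ x ∈ C L := by
    intro x
    rw [mem_C]
    constructor
    · intro h a ha
      have := h (e ⟨a, ha⟩)
      rwa [hιe] at this
    · intro h m
      exact h _ (hιL m)
  -- the core
  set X : Subgroup G := C L ⊓ centralizer {t} with hX
  have hmX : ∀ {x}, x ∈ X ↔ x ∈ C L ∧ x * t = t * x := by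
    intro x
    rw [hX, mem_inf, mem_centralizer_singleton_iff]
  have htX : t ∈ X := hmX.2 ⟨htK, rfl⟩
  have h4X : ¬ 4 ∣ Nat.card X := fun h => h4 (h.trans (Subgroup.card_dvd_of_le inf_le_left))
  obtain ⟨D0, hD0, hD1⟩ := exists_core (C := X) (t := ⟨t, htX⟩) (fun x => Subtype.ext (hmX.1 x.2).2)
    (Subtype.ext tt) (fun h => t1 (congrArg Subtype.val h)) h4X
  set D := D0.map X.subtype with hD
  have hDX : ∀ d ∈ D, d ∈ X := by
    rintro _ ⟨d, -, rfl⟩
    exact d.2
  have hDodd : Odd (Nat.card D) := by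
    rw [hD, Subgroup.card_map_of_injective X.subtype_injective]
    exact hD0
  have hcen : Cen Aall t ι D := by
    refine ⟨hinj, tt, t1, ?_, ?_, ?_, hDodd, ?_, ?_⟩
    · intro m
      exact ((hcK t).2 htK m).symm
    · intro d hd
      exact (hmX.1 (hDX d hd)).2
    · intro d hd m
      exact (hcK d).2 (hmX.1 (hDX d hd)).1 m
    · intro g hg
      have hgN : g ∈ N L := hte.nrm htK t1 tt hg
      have hconj := (StdFrame.frame L e).conj g hgN
      obtain ⟨m, hm⟩ := AutTwelve.main ((StdFrame.frame L e).act g)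
      refine ⟨(StdFrame.frame L e).act g, ?_, hconj⟩
      rcases hm with hm | hm
      · exact Or.inl ⟨m, hm⟩
      · exact Or.inr ⟨m, hm⟩
    · intro g hg hgm
      have hgX : g ∈ X := hmX.2 ⟨(hcK g).1 hgm, hg⟩
      rcases hD1 ⟨g, hgX⟩ with h | h
      · exact Or.inl ⟨_, h, rfl⟩
      · exact Or.inr ⟨_, h, rfl⟩
  refine ⟨t, ι, D, hcen, ?_⟩
  -- `t` is not isolated
  have hsL1 : (e.symm y : G) ≠ 1 := by
    intro h
    apply InvTwo.y_ne
    apply hinj
    rw [map_one]
    exact h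
  have hsL2 : (e.symm y : G) * e.symm y = 1 := by
    rw [← coe_mul, ← map_mul, y_sq, map_one, coe_one]
  obtain ⟨g, hg, z, hzN, hz, hz1, hzz⟩ := Red.even_pair hcomm hL hs (e.symm y).2 hsL1 hsL2
  -- `z` normalises `C L`
  have hzK : ∀ x, x ∈ C L → z * x * z⁻¹ ∈ C L := by
    intro x hx
    have h1 : z ∈ normalizer ((C L : Subgroup G) : Set G) := by
      rw [← hL.2.2.2]; exact hzN
    exact (mem_normalizer_iff.1 h1 x).1 hx
  have hoddX : Odd (Nat.card {x : C L // x * x = 1 ∧ x ≠ 1}) :=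
    odd_involutions h4 (t := ⟨t, htK⟩) (Subtype.ext tt) (fun h => t1 (congrArg Subtype.val h))
  set Y := {x : C L // x * x = 1 ∧ x ≠ 1} with hY
  let σf : Y → Y := fun x => ⟨⟨z * x.1 * z⁻¹, hzK _ x.1.2⟩, by
    refine ⟨Subtype.ext ?_, fun h => x.2.2 (Subtype.ext ?_)⟩
    · show z * x.1 * z⁻¹ * (z * x.1 * z⁻¹) = 1
      have h1 : (x.1 : G) * x.1 = 1 := congrArg Subtype.val x.2.1
      calc z * x.1 * z⁻¹ * (z * x.1 * z⁻¹) = z * ((x.1 : G) * x.1) * z⁻¹ := by group
        _ = 1 := by rw [h1]; group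
    · have h1 : z * x.1 * z⁻¹ = 1 := congrArg Subtype.val h
      show (x.1 : G) = 1
      calc (x.1 : G) = z⁻¹ * (z * x.1 * z⁻¹) * z := by group
        _ = 1 := by rw [h1]; group⟩
  have hσσ : ∀ x, σf (σf x) = x := by
    intro x
    apply Subtype.ext
    apply Subtype.ext
    show z * (z * x.1 * z⁻¹) * z⁻¹ = x.1
    calc z * (z * x.1 * z⁻¹) * z⁻¹ = (z * z) * x.1 * (z * z)⁻¹ := by group
      _ = x.1 := by rw [hzz]; group
  let σ : Equiv.Perm Y := ⟨σf, σf, hσσ, hσσ⟩
  have : Fintype Y := Fintype.ofFinite _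
  have : Fact (Nat.Prime 2) := ⟨Nat.prime_two⟩
  obtain ⟨t', ht'⟩ := Equiv.Perm.exists_fixed_point_of_prime (p := 2) (n := 1) (α := Y) (σ := σ) (by
    rw [← Nat.card_eq_fintype_card, ← even_iff_two_dvd, Nat.not_even_iff_odd]
    exact hoddX) (by
    apply Equiv.ext
    intro x
    rw [pow_one, pow_two]
    exact hσσ x)
  have hzt' : z * t'.1 * z⁻¹ = t'.1 := congrArg (fun x => (x.1 : G)) ht'
  obtain ⟨k, hk⟩ := isConj_iff.1 (isConj_of_two h4 (a := ⟨t, htK⟩) (b := t'.1) (Subtype.ext tt)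
    (fun h => t1 (congrArg Subtype.val h)) t'.2.1 t'.2.2)
  have hk' : (k : G) * t * (k : G)⁻¹ = t'.1 := congrArg Subtype.val hk
  -- `z` is conjugate to `t`
  obtain ⟨l, hl⟩ := isConj_iff.1 (isConj_of_two h4 (a := ⟨t, htK⟩) (b := ⟨g⁻¹ * z * g, hz⟩) (Subtype.ext tt)
    (fun h => t1 (congrArg Subtype.val h)) (Subtype.ext (by
      show g⁻¹ * z * g * (g⁻¹ * z * g) = 1
      calc g⁻¹ * z * g * (g⁻¹ * z * g) = g⁻¹ * (z * z) * g := by group
        _ = 1 := by rw [hzz]; group)) (fun h => hz1 (by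
      have h1 : g⁻¹ * z * g = 1 := congrArg Subtype.val h
      calc z = g * (g⁻¹ * z * g) * g⁻¹ := by group
        _ = 1 := by rw [h1]; group)))
  have hl' : (l : G) * t * (l : G)⁻¹ = g⁻¹ * z * g := congrArg Subtype.val hl
  have hzl : z = (g * l) * t * (g * l)⁻¹ := by
    calc z = g * (g⁻¹ * z * g) * g⁻¹ := by group
      _ = _ := by rw [← hl']; group
  refine ⟨(k : G)⁻¹ * z * k, isConj_iff.2 ⟨(k : G)⁻¹ * (g * l), by rw [hzl]; group⟩, ?_, ?_⟩
  · have h1 : z * t'.1 = t'.1 * z := by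
      calc z * t'.1 = z * t'.1 * z⁻¹ * z := by group
        _ = _ := by rw [hzt']
    rw [← hk'] at h1
    calc (k : G)⁻¹ * z * k * t = (k : G)⁻¹ * (z * ((k : G) * t * (k : G)⁻¹)) * k := by group
      _ = (k : G)⁻¹ * ((k : G) * t * (k : G)⁻¹ * z) * k := by rw [h1]
      _ = _ := by group
  · intro h1
    apply hg
    have h2 : z ∈ C L := by
      have : z = (k : G) * t * (k : G)⁻¹ := by rw [← h1]; group
      rw [this, hk']
      exact t'.1.2
    have h3 : g ∈ N L := by
      refine hte.key (g⁻¹ * z * g) g hz ?_ ?_ ?_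
      · intro h
        apply hz1
        rw [show z = g * (g⁻¹ * z * g) * g⁻¹ by group, h]; group
      · rw [show g⁻¹ * z * g * (g⁻¹ * z * g) = g⁻¹ * (z * z) * g by group, hzz]; group
      · rw [show g * (g⁻¹ * z * g) * g⁻¹ = z by group]
        exact h2
    exact h3

end Cfsg.Agent.CoThreeStd.Core
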