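import Cfsg.Agent.CoThreeStd.Core.Split
import Cfsg.Agent.CoThreeStd.Core.KZero
import Cfsg.Prelude.Def_CaseTheorems

/-!
# S1750: final assembly (helper122)
-/

set_option autoImplicit false

namespace Cfsg.Agent.CoThreeStd.Core

open Cfsg

universe u

theorem nonSplitIso : NonSplitIso.{u} := fun h m => NonSplit.main h m

variable {G : Type u} [Group G]

theorem exists_noncomm (hG : ¬ IsMulCommutative G) : ∃ a b : G, a * b ≠ b * a := by
  by_contra h
  push Not at h
  exact hG ⟨⟨h⟩⟩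

/-- **S1750**, from parts [A], [B] (`BetaIso`) and [R2] (`OuterDead`). -/
theorem isoCo3 [Finite G] [IsSimpleGroup G] (hG : ¬ IsMulCommutative G) (hβ : BetaIso.{u})
    (hO : OuterDead.{u}) (hcomm : StdAlt.First.CommHalf G) {L : Subgroup G}
    (hL : Cfsg.IsStandardSubgroup L) (hLX : Nonempty (↥L ≃* ↥Spor.M12)) : Spor.IsoCo3 G := by
  obtain ⟨e⟩ := hLX
  obtain ⟨t, ι, D, h, hiso⟩ := exists_cen hcomm hL e
  exact isoCo3_of_all (Parity.index_ne_two_of_noncomm (exists_noncomm hG)) hβ hO nonSplitIso h hiso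

end Cfsg.Agent.CoThreeStd.Core
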