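import Cfsg.Agent.CoThreeStd.Fusion

/-!
# S1750, the parity oracle (helper122)

`PD t inner 𝒟`: what is left of "G has no subgroup of index two" in the section `Γ = N_G(D)/D`,
`D = O(C_G(t))`: `𝒟 x` means that some involution above `x` is conjugate to `t` in `G`.
Without core: `pd_of`, `𝒟 = IsConj t`.
-/

set_option autoImplicit false

namespace Cfsg.Agent.CoThreeStd.Core

open Cfsg.Agent.CoThreeStd.Parity Cfsg.Agent.CoThreeStd.Fusion

variable {Γ : Type*} [Group Γ]

/-- The parity oracle. -/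
structure PD (t : Γ) (inner 𝒟 : Γ → Prop) : Prop where
  mem : 𝒟 t
  conj : ∀ x g, 𝒟 x → 𝒟 (g * x * g⁻¹)
  sq : ∀ x, 𝒟 x → x * x = 1
  ne : ∀ x, 𝒟 x → x ≠ 1
  /-- for `x` in `C(t)` (inner): `x ∈ 𝒟` iff `x ~ t` -/
  comm : ∀ x, 𝒟 x → x * t = t * x → inner x → IsConj t x
  /-- 2-subgroups of `C(x)`, `x ∈ 𝒟`, embed in `C(t)`, with `x ↦ t` -/
  emb : ∀ x, 𝒟 x → ∀ P : Subgroup Γ, IsPGroup 2 P → (∀ p ∈ P, p * x = x * p) →
    ∃ ψ : P →* Γ, Function.Injective ψ ∧ (∀ p, ψ p * t = t * ψ p) ∧ ∀ hx : x ∈ P, ψ ⟨x, hx⟩ = t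
  /-- subgroups of `C(x)`, `x ∈ 𝒟`, without normal subgroups of odd order: the order divides `|C(t)|` -/
  dvd : ∀ x, 𝒟 x → ∀ X : Subgroup Γ, (∀ p ∈ X, p * x = x * p) →
    (∀ N : Subgroup Γ, N ≤ X → (∀ p ∈ X, ∀ n ∈ N, p * n * p⁻¹ ∈ N) → Odd (Nat.card N) → N = ⊥) →
    Nat.card X ∣ Nat.card (Subgroup.centralizer ({t} : Set Γ))
  /-- parity in `C(t)` -/
  even : ∀ C₀ : Subgroup Γ, C₀ ≤ Subgroup.centralizer ({t} : Set Γ) →
    C₀.relIndex (Subgroup.centralizer ({t} : Set Γ)) = 2 →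
    Even (Nat.card {x : Γ // 𝒟 x ∧ x * t = t * x ∧ x ∉ C₀})
  /-- parity in a subgroup `C ≥ C(t)` with `𝒟 ∩ (C ∖ C₀) = t^C` -/
  kill : ∀ C₀ C : Subgroup Γ, C₀ ≤ C → C₀.relIndex C = 2 → (∀ g, g * t = t * g → g ∈ C) → t ∉ C₀ →
    (∀ x ∈ C, x ∉ C₀ → 𝒟 x → ∃ c ∈ C, c * t * c⁻¹ = x) → False

theorem PD.of_isConj {t : Γ} {inner 𝒟 : Γ → Prop} (P : PD t inner 𝒟) {x : Γ} (h : IsConj t x) : 𝒟 x := by
  obtain ⟨g, rfl⟩ := isConj_iff.1 h
  exact P.conj _ _ P.mem

/-- The oracle when `G` has no subgroup of index two. -/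
theorem pd_of [Finite Γ] (hG : ∀ K : Subgroup Γ, K.index ≠ 2) {t : Γ} (tt : t * t = 1) (t1 : t ≠ 1) :
    PD t (fun _ => True) (fun x => IsConj t x) where
  mem := IsConj.refl t
  conj := fun x g h => h.trans (isConj_iff.2 ⟨g, rfl⟩)
  sq := by
    intro x h
    obtain ⟨g, rfl⟩ := isConj_iff.1 h
    calc g * t * g⁻¹ * (g * t * g⁻¹) = g * (t * t) * g⁻¹ := by group
      _ = 1 := by rw [tt]; group
  ne := by
    intro x h h1
    obtain ⟨g, rfl⟩ := isConj_iff.1 h
    apply t1
    rwa [mul_inv_eq_one, mul_eq_left] at h1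
  comm := fun x h _ _ => h
  emb := by
    intro x h P _ hc
    obtain ⟨g, rfl⟩ := isConj_iff.1 h
    refine ⟨(MulAut.conj g⁻¹).toMonoidHom.comp P.subtype,
      (MulAut.conj g⁻¹).injective.comp P.subtype_injective, ?_, ?_⟩
    · rintro ⟨p, hp⟩
      show g⁻¹ * p * g⁻¹⁻¹ * t = t * (g⁻¹ * p * g⁻¹⁻¹)
      have := hc p hp
      calc g⁻¹ * p * g⁻¹⁻¹ * t = g⁻¹ * (p * (g * t * g⁻¹)) * g := by group
        _ = g⁻¹ * ((g * t * g⁻¹) * p) * g := by rw [this]
        _ = _ := by group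
    · intro _
      show g⁻¹ * (g * t * g⁻¹) * g⁻¹⁻¹ = t
      group
  dvd := by
    intro x h X hc _
    obtain ⟨g, rfl⟩ := isConj_iff.1 h
    have h1 : X ≤ (Subgroup.centralizer ({t} : Set Γ)).map (MulAut.conj g).toMonoidHom := by
      intro p hp
      refine ⟨g⁻¹ * p * g, ?_, ?_⟩
      · show g⁻¹ * p * g ∈ Subgroup.centralizer ({t} : Set Γ)
        rw [Subgroup.mem_centralizer_singleton_iff]
        calc g⁻¹ * p * g * t = g⁻¹ * (p * (g * t * g⁻¹)) * g := by group
          _ = g⁻¹ * ((g * t * g⁻¹) * p) * g := by rw [hc p hp]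
          _ = _ := by group
      · show g * (g⁻¹ * p * g) * g⁻¹ = p
        group
    have h2 := Subgroup.card_dvd_of_le h1
    rwa [Subgroup.card_map_of_injective (MulAut.conj g).injective] at h2
  even := by
    intro C₀ hle h2
    have h := two_mul_card_dvd hG hle h2 t tt
    rw [mul_comm] at h
    have hpos : 0 < Nat.card (Subgroup.centralizer ({t} : Set Γ)) := Nat.card_pos
    have h3 := Nat.dvd_of_mul_dvd_mul_left hpos h
    have h4 : Nat.card {h : Γ // (h ∈ Subgroup.centralizer ({t} : Set Γ) ∧ h ∉ C₀) ∧ IsConj t h} =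
        Nat.card {x : Γ // IsConj t x ∧ x * t = t * x ∧ x ∉ C₀} := by
      apply Nat.card_congr
      refine Equiv.subtypeEquivRight fun x => ?_
      rw [Subgroup.mem_centralizer_singleton_iff]
      tauto
    rw [h4] at h3
    exact (even_iff_two_dvd).2 h3
  kill := by
    intro C₀ C hle h2 hcent htC₀ hx
    have hdvd := two_mul_card_dvd hG hle h2 t tt
    have htC : t ∈ C := hcent t rfl
    rw [← card_conj_eq t (fun h => h ∈ C ∧ h ∉ C₀)] at hdvd
    have hcard : Nat.card {g : Γ // g⁻¹ * t * g ∈ C ∧ g⁻¹ * t * g ∉ C₀} = Nat.card C := by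
      apply Nat.card_congr
      refine Equiv.subtypeEquivRight (fun g => ?_)
      constructor
      · rintro ⟨h1, h3⟩
        obtain ⟨c, hc, h4⟩ := hx _ h1 h3 (isConj_iff.2 ⟨g⁻¹, by group⟩)
        have h5 : g * c ∈ C := by
          apply hcent
          have h6 : g * (c * t * c⁻¹) * g⁻¹ = t := by rw [h4]; group
          calc g * c * t = g * (c * t * c⁻¹) * g⁻¹ * (g * c) := by group
            _ = _ := by rw [h6]
        have := C.mul_mem h5 (C.inv_mem hc)
        rwa [mul_inv_cancel_right] at this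
      · intro hg
        refine ⟨C.mul_mem (C.mul_mem (C.inv_mem hg) htC) hg, fun h => htC₀ ?_⟩
        rw [Cfsg.Agent.LargeExtra.Transfer.normal_of_relIndex hle h2 hg] at h
        exact h
    rw [hcard] at hdvd
    have hpos : 0 < Nat.card C := Nat.card_pos
    have := Nat.le_of_dvd hpos hdvd
    omega

variable {M : Type*} [Group M] {t : Γ} {ι : M →* Γ} {A B : M → Prop} {inner 𝒟 : Γ → Prop}

/-- `t ~ tb`. -/
theorem conj_t_mul_b [Finite Γ] (P : PD t inner 𝒟) (hin : ∀ m, inner (t * ι m)) (c : Ctx t ι)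
    (h : Inv2 A B) {b : M} (hb : B b) : IsConj t (t * ι b) := by
  classical
  have hfin : Finite M := Finite.of_injective ι c.inj
  by_contra hne
  have hcm : ∀ m, (t * ι m) * t = t * (t * ι m) := fun m => by rw [mul_assoc, c.comm]
  have hneB : ∀ b', B b' → ¬ 𝒟 (t * ι b') := by
    intro b' hb' h1
    apply hne
    obtain ⟨m, hm⟩ := h.conjB _ _ hb' hb
    refine (P.comm _ h1 (hcm _) (hin _)).trans (isConj_iff.2 ⟨ι m, ?_⟩)
    rw [← hm, map_mul, map_mul, map_inv]
    calc ι m * (t * ι b') * (ι m)⁻¹ = (ι m * t) * ι b' * (ι m)⁻¹ := by group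
      _ = (t * ι m) * ι b' * (ι m)⁻¹ := by rw [c.comm]
      _ = _ := by group
  set C := Subgroup.centralizer ({t} : Set Γ) with hC
  set C₀ := ι.range with hC₀
  have hle : C₀ ≤ C := by
    rintro _ ⟨m, rfl⟩
    exact Subgroup.mem_centralizer_singleton_iff.2 (c.comm m)
  have hcM : Nat.card C₀ = Nat.card M :=
    (Nat.card_congr (MonoidHom.ofInjective c.inj).toEquiv).symm
  have hcC : Nat.card C = 2 * Nat.card M := centralizer_card c
  have hpos : 0 < Nat.card M := Nat.card_pos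
  have h2 : C₀.relIndex C = 2 := by
    have h3 := (C₀.subgroupOf C).card_mul_index
    rw [Nat.card_congr (Subgroup.subgroupOfEquivOfLe hle).toEquiv, hcM, hcC] at h3
    have h4 : (C₀.subgroupOf C).index = C₀.relIndex C := rfl
    rw [h4, mul_comm 2] at h3
    exact Nat.eq_of_mul_eq_mul_left hpos h3
  have heven := P.even C₀ hle h2
  -- the set is `{t}` or `{t} ∪ tA`
  have hel : ∀ g : Γ, (𝒟 g ∧ g * t = t * g ∧ g ∉ C₀) ↔
      g = t ∨ ∃ a, A a ∧ 𝒟 (t * ι a) ∧ g = t * ι a := by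
    intro g
    constructor
    · rintro ⟨h5, h3, h4⟩
      obtain ⟨m, rfl | rfl⟩ := c.cent g h3
      · exact absurd ⟨m, rfl⟩ h4
      · by_cases hm : m = 1
        · left; rw [hm, map_one, mul_one]
        · right
          have hmm : m * m = 1 := by
            apply c.inj
            rw [map_mul, map_one]
            have h6 := P.sq _ h5
            calc ι m * ι m = t * t * (ι m * ι m) := by rw [c.tt, one_mul]
              _ = t * (t * ι m) * ι m := by group
              _ = t * (ι m * t) * ι m := by rw [c.comm]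
              _ = (t * ι m) * (t * ι m) := by group
              _ = 1 := h6
          rcases h.cases m hmm hm with h6 | h6
          · exact ⟨m, h6, h5, rfl⟩
          · exact absurd h5 (hneB m h6)
    · rintro (rfl | ⟨a, ha, h3, rfl⟩)
      · refine ⟨P.mem, rfl, ?_⟩
        rintro ⟨m, hm⟩
        exact c.nmem m hm
      · refine ⟨h3, hcm a, ?_⟩
        rintro ⟨m, hm⟩
        exact c.nmem (m * a⁻¹) (by rw [map_mul, map_inv, hm, mul_inv_cancel_right])
  have hodd : Odd (Nat.card {g : Γ // 𝒟 g ∧ g * t = t * g ∧ g ∉ C₀}) := by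
    have e1 : Nat.card {g : Γ // 𝒟 g ∧ g * t = t * g ∧ g ∉ C₀} =
        Nat.card {g : Γ // g = t ∨ ∃ a, A a ∧ 𝒟 (t * ι a) ∧ g = t * ι a} :=
      Nat.card_congr (Equiv.subtypeEquivRight hel)
    rw [e1]
    by_cases hA : ∃ a, A a ∧ 𝒟 (t * ι a)
    · obtain ⟨a, ha, hta⟩ := hA
      have hall : ∀ a', A a' → 𝒟 (t * ι a') := by
        intro a' ha'
        obtain ⟨m, hm⟩ := h.conjA _ _ ha ha'
        have h8 := P.conj _ (ι m) hta
        have h9 : ι m * (t * ι a) * (ι m)⁻¹ = t * ι a' := by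
          rw [← hm, map_mul, map_mul, map_inv]
          calc ι m * (t * ι a) * (ι m)⁻¹ = (ι m * t) * ι a * (ι m)⁻¹ := by group
            _ = (t * ι m) * ι a * (ι m)⁻¹ := by rw [c.comm]
            _ = _ := by group
        rwa [h9] at h8
      have e2 : Nat.card {g : Γ // g = t ∨ ∃ a, A a ∧ 𝒟 (t * ι a) ∧ g = t * ι a} =
          Nat.card ({m : M // A m} ⊕ Unit) := by
        symm
        apply Nat.card_congr
        refine Equiv.ofBijective (fun x => Sum.elim
          (fun m => ⟨t * ι m.1, Or.inr ⟨m.1, m.2, hall m.1 m.2, rfl⟩⟩) (fun _ => ⟨t, Or.inl rfl⟩) x) ⟨?_, ?_⟩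
        · rintro (x | x) (y | y) hxy
          · have := c.inj (mul_left_cancel (congrArg Subtype.val hxy : t * ι x.1 = t * ι y.1))
            rw [Subtype.ext this]
          · exfalso
            have h3 : t * ι x.1 = t := congrArg Subtype.val hxy
            have h4 : ι x.1 = ι 1 := by rw [map_one]; exact mul_left_cancel (h3.trans (mul_one t).symm)
            exact (h.invA _ x.2).2 (c.inj h4)
          · exfalso
            have h3 : t = t * ι y.1 := congrArg Subtype.val hxy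
            have h4 : ι y.1 = ι 1 := by rw [map_one]; exact mul_left_cancel (h3.symm.trans (mul_one t).symm)
            exact (h.invA _ y.2).2 (c.inj h4)
          · rfl
        · rintro ⟨g, rfl | ⟨a', ha', h3, rfl⟩⟩
          · exact ⟨Sum.inr (), rfl⟩
          · exact ⟨Sum.inl ⟨a', ha'⟩, rfl⟩
      rw [e2, Nat.card_sum, Nat.card_unique (α := Unit)]
      exact h.evenA.add_one
    · push Not at hA
      have : Unique {g : Γ // g = t ∨ ∃ a, A a ∧ 𝒟 (t * ι a) ∧ g = t * ι a} :=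
        { default := ⟨t, Or.inl rfl⟩
          uniq := by
            rintro ⟨g, rfl | ⟨a', ha', h3, rfl⟩⟩
            · rfl
            · exact absurd h3 (hA a' ha') }
      rw [Nat.card_unique]
      exact odd_one
  rw [← Nat.not_even_iff_odd] at hodd
  exact hodd heven

end Cfsg.Agent.CoThreeStd.Core
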