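import Cfsg.Agent.CoThreeStd.Core.Oracle
import Cfsg.Agent.CoThreeStd.Core.Cen

/-!
# S1750: the section `Γ = N_G(D)/D` and its parity oracle (helper122)
-/

set_option autoImplicit false

namespace Cfsg.Agent.CoThreeStd.Core

open Cfsg.Agent.CoThreeStd.Parity Cfsg.Agent.CoThreeStd.Fusion

variable {G M Γ : Type*} [Group G] [Group M] [Group Γ]

/-- `π : H → Γ` is surjective with kernel `D`. -/
structure Sec (D H : Subgroup G) (π : H →* Γ) : Prop where
  surj : Function.Surjective π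
  ker : ∀ h : H, π h = 1 ↔ (h : G) ∈ D

theorem relIndex_two_iff {C₀ C : Subgroup G} :
    C₀.relIndex C = 2 ↔ ∃ a ∈ C, ∀ b ∈ C, Xor' (b * a ∈ C₀) (b ∈ C₀) := by
  rw [Subgroup.relIndex, Subgroup.index_eq_two_iff]
  constructor
  · rintro ⟨⟨a, ha⟩, h⟩
    refine ⟨a, ha, fun b hb => ?_⟩
    have := h ⟨b, hb⟩
    rw [Subgroup.mem_subgroupOf, Subgroup.mem_subgroupOf] at this
    exact this
  · rintro ⟨a, ha, h⟩
    refine ⟨⟨a, ha⟩, ?_⟩
    rintro ⟨b, hb⟩
    rw [Subgroup.mem_subgroupOf, Subgroup.mem_subgroupOf]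
    exact h b hb

/-- a set closed under inversion in an odd group which contains `1` has odd size -/
theorem odd_card_inv [Finite G] (p : G → Prop) (h1 : p 1) (hinv : ∀ z, p z → p z⁻¹)
    (hodd : ∀ z, p z → z * z = 1 → z = 1) : Odd (Nat.card {z : G // p z}) := by
  classical
  have : Fintype G := Fintype.ofFinite G
  have e1 : Nat.card {z : G // p z} = (Finset.univ.filter p).card := by
    rw [Nat.card_eq_fintype_card, Fintype.card_subtype]
  have e2 : (Finset.univ.filter p) = insert 1 (Finset.univ.filter (fun z => p z ∧ z ≠ 1)) := by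
    ext z
    simp only [Finset.mem_filter, Finset.mem_univ, true_and, Finset.mem_insert]
    constructor
    · intro h
      by_cases hz : z = 1
      · exact Or.inl hz
      · exact Or.inr ⟨h, hz⟩
    · rintro (rfl | h)
      · exact h1
      · exact h.1
  have e3 : Even ((Finset.univ.filter (fun z => p z ∧ z ≠ 1)).card) := by
    have h2 : ∑ _z ∈ Finset.univ.filter (fun z => p z ∧ z ≠ 1), (1 : ZMod 2) = 0 := by
      refine Finset.sum_involution (fun z _ => z⁻¹) ?_ ?_ ?_ ?_
      · intro z _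
        decide
      · intro z hz _ h
        have h3 := (Finset.mem_filter.1 hz).2
        apply h3.2
        apply hodd z h3.1
        nth_rewrite 1 [← h]
        exact inv_mul_cancel z
      · intro z hz
        have h3 := (Finset.mem_filter.1 hz).2
        exact Finset.mem_filter.2 ⟨Finset.mem_univ _, hinv z h3.1, inv_ne_one.2 h3.2⟩
      · intro z _
        exact inv_inv z
    rw [Finset.sum_const, nsmul_eq_mul, mul_one, ZMod.natCast_eq_zero_iff] at h2
    exact (even_iff_two_dvd).2 h2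
  rw [e1, e2, Finset.card_insert_of_notMem (by simp)]
  exact e3.add_one

/-- parity of a finite set fibred with odd fibres -/
theorem even_of_fibres {A B : Type*} [Finite A] [Finite B] (f : A → B)
    (hf : ∀ b, Odd (Nat.card {a // f a = b})) (hA : Even (Nat.card A)) : Even (Nat.card B) := by
  classical
  have : Fintype A := Fintype.ofFinite A
  have : Fintype B := Fintype.ofFinite B
  have e : Nat.card A = ∑ b : B, Nat.card {a // f a = b} := by
    rw [← Nat.card_congr (Equiv.sigmaFiberEquiv f), Nat.card_sigma]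
  rw [e] at hA
  have h1 := Finset.even_sum_iff_even_card_odd (s := Finset.univ) (fun b : B => Nat.card {a // f a = b})
  rw [h1] at hA
  have h2 : Finset.univ.filter (fun b : B => Odd (Nat.card {a // f a = b})) = Finset.univ := by
    rw [Finset.filter_eq_self]
    intro b _
    exact hf b
  rw [h2, Finset.card_univ] at hA
  rwa [Nat.card_eq_fintype_card]

/-- a section over a 2-group, through a given involution -/
theorem exists_section {X P : Type*} [Group X] [Finite X] [Group P] (φ : X →* P)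
    (hφ : Function.Surjective φ) (hP : IsPGroup 2 P) (hker : ∀ x, φ x = 1 → Odd (orderOf x)) {z : X}
    (hz : z * z = 1) : ∃ σ : P →* X, (∀ p, φ (σ p) = p) ∧ σ (φ z) = z := by
  classical
  have : Fact (Nat.Prime 2) := ⟨Nat.prime_two⟩
  have hfP : Finite P := Finite.of_surjective φ hφ
  have hzp : IsPGroup 2 (Subgroup.zpowers z) := by
    rintro ⟨x, k, hk⟩
    refine ⟨1, ?_⟩
    apply Subtype.ext
    show x ^ 2 ^ 1 = 1
    rw [← hk]
    show (z ^ k) ^ 2 ^ 1 = 1
    rw [pow_one, pow_two, ← (Commute.refl z).mul_zpow, hz, one_zpow]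
  obtain ⟨S, hS⟩ := hzp.exists_le_sylow
  have hzS : z ∈ S := hS (Subgroup.mem_zpowers z)
  have hinj : Function.Injective (φ.comp (S : Subgroup X).subtype) := by
    rw [injective_iff_map_eq_one]
    rintro ⟨s, hs⟩ h1
    have h2 := hker s h1
    obtain ⟨k, hk⟩ := (IsPGroup.iff_orderOf.1 S.isPGroup') ⟨s, hs⟩
    rw [Subgroup.orderOf_mk] at hk
    rw [hk] at h2
    apply Subtype.ext
    show s = 1
    rcases Nat.eq_zero_or_pos k with rfl | hpos
    · rw [pow_zero] at hk
      exact orderOf_eq_one_iff.1 hk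
    · exfalso
      rw [← Nat.not_even_iff_odd] at h2
      exact h2 ((Nat.even_pow.2 ⟨even_two, hpos.ne'⟩))
  have hmap : (S : Subgroup X).map φ = ⊤ := by
    rw [← Subgroup.index_eq_one]
    have h1 : ((S : Subgroup X).map φ).index ∣ (S : Subgroup X).index := Subgroup.index_map_dvd _ hφ
    have h2 : ¬ 2 ∣ (S : Subgroup X).index := S.not_dvd_index
    have h3 : ((S : Subgroup X).map φ).index ∣ Nat.card P := Subgroup.index_dvd_card _
    obtain ⟨n, hn⟩ := IsPGroup.iff_card.1 hP
    rw [hn] at h3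
    obtain ⟨k, -, hk⟩ := (Nat.dvd_prime_pow Nat.prime_two).1 h3
    rw [hk]
    rcases Nat.eq_zero_or_pos k with rfl | hpos
    · rfl
    · exfalso
      apply h2
      refine Dvd.dvd.trans ?_ h1
      rw [hk]
      exact dvd_pow_self 2 hpos.ne'
  have hsurj : Function.Surjective (φ.comp (S : Subgroup X).subtype) := by
    intro p
    have : p ∈ (S : Subgroup X).map φ := by rw [hmap]; trivial
    obtain ⟨s, hs, h1⟩ := this
    exact ⟨⟨s, hs⟩, h1⟩
  set E := MulEquiv.ofBijective (φ.comp (S : Subgroup X).subtype) ⟨hinj, hsurj⟩ with hE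
  refine ⟨(S : Subgroup X).subtype.comp E.symm.toMonoidHom, ?_, ?_⟩
  · intro p
    exact E.apply_symm_apply p
  · show ((E.symm (φ z)) : X) = z
    have : φ z = E ⟨z, hzS⟩ := rfl
    rw [this, E.symm_apply_apply]

namespace Cen

variable {𝒜 : (M ≃* M) → Prop} {t : G} {ι : M →* G} {D : Subgroup G}

/-- `t` in `N_G(D)` -/
def tH (h : Cen 𝒜 t ι D) : Subgroup.normalizer (D : Set G) := ⟨t, h.le_normalizer rfl⟩

/-- `ι` into `N_G(D)` -/
def ιH (h : Cen 𝒜 t ι D) : M →* Subgroup.normalizer (D : Set G) :=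
  ι.codRestrict _ (fun m => h.le_normalizer (h.comm m))

@[simp] theorem tH_coe (h : Cen 𝒜 t ι D) : (h.tH : G) = t := rfl
@[simp] theorem ιH_coe (h : Cen 𝒜 t ι D) (m : M) : (h.ιH m : G) = ι m := rfl

variable {π : Subgroup.normalizer (D : Set G) →* Γ}

theorem _root_.Cfsg.Agent.CoThreeStd.Core.Sec.eq_iff {H : Subgroup G} {π : H →* Γ} (S : Sec D H π) (a b : H) :
    π a = π b ↔ (a : G)⁻¹ * b ∈ D := by
  rw [← inv_mul_eq_one, ← map_inv, ← map_mul, S.ker]
  rfl

/-- lifting of centralisers of involutions -/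
theorem lift_comm (h : Cen 𝒜 t ι D) (S : Sec D _ π) {a : Subgroup.normalizer (D : Set G)}
    (ha : (a : G) * a = 1) {x : Γ} (hx : x * π a = π a * x) :
    ∃ k : Subgroup.normalizer (D : Set G), (k : G) * a = a * k ∧ π k = x := by
  obtain ⟨k, rfl⟩ := S.surj x
  have h1 : π (k * a * k⁻¹) = π a := by
    rw [map_mul, map_mul, map_inv, hx, mul_inv_cancel_right]
  rw [S.eq_iff] at h1
  obtain ⟨d, hd, h2⟩ := conj_of_coset h.odd (x := (k : G) * a * (k : G)⁻¹) (y := a) (by
    calc (k : G) * a * (k : G)⁻¹ * ((k : G) * a * (k : G)⁻¹) = k * (a * a) * (k : G)⁻¹ := by group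
      _ = 1 := by rw [ha]; group) ha h1
  have hdH : d ∈ Subgroup.normalizer (D : Set G) := Subgroup.le_normalizer hd
  refine ⟨⟨d, hdH⟩ * k, ?_, ?_⟩
  · show d * k * a = a * (d * k)
    calc d * k * a = d * (k * a * (k : G)⁻¹) * d⁻¹ * (d * k) := by group
      _ = _ := by rw [h2]
  · rw [map_mul, (S.ker _).2 hd, one_mul]

/-- involutions of `N(D)` with the same image are conjugate -/
theorem conj_of_eq (h : Cen 𝒜 t ι D) (S : Sec D _ π) {a b : Subgroup.normalizer (D : Set G)}
    (ha : (a : G) * a = 1) (hb : (b : G) * b = 1) (hab : π a = π b) :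
    ∃ d ∈ D, d * (a : G) * d⁻¹ = b :=
  conj_of_coset h.odd ha hb ((S.eq_iff a b).1 hab)

theorem isConj_of_eq (h : Cen 𝒜 t ι D) (S : Sec D _ π) {a b : Subgroup.normalizer (D : Set G)}
    (ha : (a : G) * a = 1) (hb : (b : G) * b = 1) (hab : IsConj (π a) (π b)) : IsConj a b := by
  obtain ⟨x, hx⟩ := isConj_iff.1 hab
  obtain ⟨k, rfl⟩ := S.surj x
  rw [← map_inv, ← map_mul, ← map_mul] at hx
  obtain ⟨d, hd, h2⟩ := h.conj_of_eq S (a := k * a * k⁻¹) (b := b) (by
    show (k : G) * a * (k : G)⁻¹ * ((k : G) * a * (k : G)⁻¹) = 1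
    calc (k : G) * a * (k : G)⁻¹ * ((k : G) * a * (k : G)⁻¹) = k * (a * a) * (k : G)⁻¹ := by group
      _ = 1 := by rw [ha]; group) hb hx
  rw [isConj_iff]
  refine ⟨⟨d, Subgroup.le_normalizer hd⟩ * k, ?_⟩
  apply Subtype.ext
  show d * (k : G) * a * (d * (k : G))⁻¹ = b
  rw [← h2]
  show d * (k : G) * a * (d * (k : G))⁻¹ = d * ((k : G) * a * (k : G)⁻¹) * d⁻¹
  group

/-- the oracle in `Γ` -/
def DD (t : G) (π : Subgroup.normalizer (D : Set G) →* Γ) (x : Γ) : Prop :=
  ∃ k : Subgroup.normalizer (D : Set G), π k = x ∧ IsConj t (k : G)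

/-- the elements of `⟨t⟩ × ι M` in `Γ` -/
def inn (h : Cen 𝒜 t ι D) (π : Subgroup.normalizer (D : Set G) →* Γ) (x : Γ) : Prop :=
  ∃ m, x = π (h.ιH m) ∨ x = π h.tH * π (h.ιH m)

theorem sq_of_isConj (h : Cen 𝒜 t ι D) {k : G} (hk : IsConj t k) : k * k = 1 := by
  obtain ⟨g, rfl⟩ := isConj_iff.1 hk
  calc g * t * g⁻¹ * (g * t * g⁻¹) = g * (t * t) * g⁻¹ := by group
    _ = 1 := by rw [h.tt]; group

theorem DD_comm [Finite G] (h : Cen 𝒜 t ι D) (F : MFacts 𝒜) (S : Sec D _ π) {x : Γ} (hx : DD t π x)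
    (hi : h.inn π x) : IsConj (π h.tH) x := by
  obtain ⟨k, rfl, hk⟩ := hx
  have hkk := h.sq_of_isConj hk
  -- the representative in `⟨t⟩ × ι M`
  have key : ∀ s : Subgroup.normalizer (D : Set G), π k = π s → (∃ m, (s : G) = ι m ∨ (s : G) = t * ι m) →
      IsConj (π h.tH) (π k) := by
    intro s hs hm
    have hss : (s : G) * s = 1 := by
      have h1 : π (s * s) = 1 := by
        rw [map_mul, ← hs, ← map_mul]
        have : k * k = 1 := Subtype.ext hkk
        rw [this, map_one]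
      have h2 : (s : G) * s ∈ D := (S.ker _).1 h1
      obtain ⟨m, h3 | h3⟩ := hm
      · rw [h3, ← map_mul] at h2 ⊢
        rw [h.eq_one_of_mem F h2, map_one]
      · have h4 : (s : G) * s = ι (m * m) := by
          rw [h3, map_mul]
          calc t * ι m * (t * ι m) = t * (ι m * t) * ι m := by group
            _ = (t * t) * (ι m * ι m) := by rw [h.comm]; group
            _ = _ := by rw [h.tt, one_mul]
        rw [h4] at h2 ⊢
        rw [h.eq_one_of_mem F h2, map_one]
    obtain ⟨d, hd, h2⟩ := h.conj_of_eq S hkk hss hs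
    obtain ⟨g, hg⟩ := isConj_iff.1 (hk.trans (isConj_iff.2 ⟨d, h2⟩))
    have hgH : g ∈ Subgroup.normalizer (D : Set G) := by
      apply h.balance F
      rw [hg]
      exact hm
    rw [hs, isConj_iff]
    refine ⟨π ⟨g, hgH⟩, ?_⟩
    rw [← map_inv, ← map_mul, ← map_mul]
    congr 1
    exact Subtype.ext hg
  obtain ⟨m, h1 | h1⟩ := hi
  · exact key (h.ιH m) h1 ⟨m, Or.inl rfl⟩
  · rw [← map_mul] at h1
    exact key (h.tH * h.ιH m) h1 ⟨m, Or.inr rfl⟩

end Cen

end Cfsg.Agent.CoThreeStd.Core
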