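import Cfsg.Agent.CoThreeStd.Core.Sec

/-!
# S1750: `PD` for the section `Γ = N_G(D)/D` (helper122)
-/

set_option autoImplicit false

namespace Cfsg.Agent.CoThreeStd.Core

open Cfsg.Agent.CoThreeStd.Parity Cfsg.Agent.CoThreeStd.Fusion

variable {G M Γ : Type*} [Group G] [Group M] [Group Γ]

theorem odd_card_of {X : Type*} [Group X] [Finite X] (h : ∀ x : X, Odd (orderOf x)) : Odd (Nat.card X) := by
  by_contra hev
  rw [Nat.not_odd_iff_even, even_iff_two_dvd] at hev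
  have : Fact (Nat.Prime 2) := ⟨Nat.prime_two⟩
  obtain ⟨x, hx⟩ := exists_prime_orderOf_dvd_card' 2 hev
  have := h x
  rw [hx] at this
  exact absurd this (by decide)

namespace Cen

variable {𝒜 : (M ≃* M) → Prop} {t : G} {ι : M →* G} {D : Subgroup G}
  {π : Subgroup.normalizer (D : Set G) →* Γ}

section lift

variable (h : Cen 𝒜 t ι D) {g : G} {k : Subgroup.normalizer (D : Set G)} (hk : g * t * g⁻¹ = k)
  (X : Subgroup Γ)

/-- the preimage of `X` in `C(k)` -/
def pre (π : Subgroup.normalizer (D : Set G) →* Γ) (k : Subgroup.normalizer (D : Set G)) (X : Subgroup Γ) :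
    Subgroup (Subgroup.normalizer (D : Set G)) :=
  Subgroup.centralizer ({k} : Set (Subgroup.normalizer (D : Set G))) ⊓ X.comap π

theorem mem_pre {a : Subgroup.normalizer (D : Set G)} : a ∈ pre π k X ↔ a * k = k * a ∧ π a ∈ X := by
  rw [pre, Subgroup.mem_inf, Subgroup.mem_centralizer_singleton_iff, Subgroup.mem_comap]

/-- `φ` -/
def phi (π : Subgroup.normalizer (D : Set G) →* Γ) (k : Subgroup.normalizer (D : Set G)) (X : Subgroup Γ) :
    pre π k X →* X :=
  (π.comp (pre π k X).subtype).codRestrict X (fun a => ((mem_pre X).1 a.2).2)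

include h hk in
theorem conj_mem_normalizer (a : pre π k X) : g⁻¹ * (a : Subgroup.normalizer (D : Set G)) * g ∈
    Subgroup.normalizer (D : Set G) := by
  apply h.le_normalizer
  have h1 : ((a : Subgroup.normalizer (D : Set G)) : G) * k = k * (a : Subgroup.normalizer (D : Set G)) :=
    congrArg Subtype.val ((mem_pre X).1 a.2).1
  rw [← hk] at h1
  calc g⁻¹ * ((a : Subgroup.normalizer (D : Set G)) : G) * g * t
      = g⁻¹ * (((a : Subgroup.normalizer (D : Set G)) : G) * (g * t * g⁻¹)) * g := by group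
    _ = g⁻¹ * ((g * t * g⁻¹) * ((a : Subgroup.normalizer (D : Set G)) : G)) * g := by rw [h1]
    _ = _ := by group

/-- `ψ` -/
def psi : pre π k X →* Γ :=
  π.comp (((MulAut.conj g⁻¹).toMonoidHom.comp
    ((Subgroup.subtype _).comp (pre π k X).subtype)).codRestrict (Subgroup.normalizer (D : Set G))
    (fun a => by
      have := conj_mem_normalizer h hk X a
      show g⁻¹ * (a : Subgroup.normalizer (D : Set G)) * g⁻¹⁻¹ ∈ _
      rwa [inv_inv]))

theorem psi_comm (a : pre π k X) : psi h hk X a * π h.tH = π h.tH * psi h hk X a := by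
  rw [psi, MonoidHom.comp_apply, ← map_mul, ← map_mul]
  congr 1
  apply Subtype.ext
  show g⁻¹ * (a : Subgroup.normalizer (D : Set G)) * g⁻¹⁻¹ * t = t * (g⁻¹ * (a : Subgroup.normalizer (D : Set G)) * g⁻¹⁻¹)
  have h1 : ((a : Subgroup.normalizer (D : Set G)) : G) * k = k * (a : Subgroup.normalizer (D : Set G)) :=
    congrArg Subtype.val ((mem_pre X).1 a.2).1
  rw [← hk] at h1
  calc g⁻¹ * ((a : Subgroup.normalizer (D : Set G)) : G) * g⁻¹⁻¹ * t
      = g⁻¹ * (((a : Subgroup.normalizer (D : Set G)) : G) * (g * t * g⁻¹)) * g := by group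
    _ = g⁻¹ * ((g * t * g⁻¹) * ((a : Subgroup.normalizer (D : Set G)) : G)) * g := by rw [h1]
    _ = _ := by group

theorem psi_ker (S : Sec D _ π) (a : pre π k X) : psi h hk X a = 1 ↔
    g⁻¹ * ((a : Subgroup.normalizer (D : Set G)) : G) * g ∈ D := by
  rw [psi, MonoidHom.comp_apply, S.ker]
  show g⁻¹ * ((a : Subgroup.normalizer (D : Set G)) : G) * g⁻¹⁻¹ ∈ D ↔ _
  rw [inv_inv]

theorem orderOf_pre (a : pre π k X) : orderOf a = orderOf ((a : Subgroup.normalizer (D : Set G)) : G) := by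
  rw [Subgroup.orderOf_coe, Subgroup.orderOf_coe]

theorem psi_ker_odd (S : Sec D _ π) (a : pre π k X) (ha : psi h hk X a = 1) : Odd (orderOf a) := by
  rw [psi_ker h hk X S] at ha
  have h1 := odd_orderOf h.odd ha
  have h2 : orderOf (g⁻¹ * ((a : Subgroup.normalizer (D : Set G)) : G) * g) =
      orderOf ((a : Subgroup.normalizer (D : Set G)) : G) := by
    have := MulEquiv.orderOf_eq (MulAut.conj g⁻¹) ((a : Subgroup.normalizer (D : Set G)) : G)
    rw [← this]
    congr 1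
    show _ = g⁻¹ * ((a : Subgroup.normalizer (D : Set G)) : G) * g⁻¹⁻¹
    rw [inv_inv]
  rw [orderOf_pre, ← h2]
  exact h1

theorem phi_ker_odd (h : Cen 𝒜 t ι D) (S : Sec D _ π) (a : pre π k X) (ha : phi π k X a = 1) :
    Odd (orderOf a) := by
  rw [orderOf_pre]
  apply odd_orderOf h.odd
  rw [← S.ker]
  exact congrArg Subtype.val ha

include h hk in
theorem phi_surj (S : Sec D _ π) (hX : ∀ p ∈ X, p * π k = π k * p) : Function.Surjective (phi π k X) := by
  rintro ⟨x, hx⟩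
  obtain ⟨a, ha, hax⟩ := h.lift_comm S (a := k) (h.sq_of_isConj (isConj_iff.2 ⟨g, hk⟩)) (hX x hx)
  exact ⟨⟨a, (mem_pre X).2 ⟨Subtype.ext ha, by rw [hax]; exact hx⟩⟩, Subtype.ext hax⟩

end lift

theorem DD_emb [Finite G] (h : Cen 𝒜 t ι D) (S : Sec D _ π) {x : Γ} (hx : DD t π x)
    (P : Subgroup Γ) (hP : IsPGroup 2 P) (hPx : ∀ p ∈ P, p * x = x * p) :
    ∃ ψ : P →* Γ, Function.Injective ψ ∧ (∀ p, ψ p * π h.tH = π h.tH * ψ p) ∧
      ∀ hx : x ∈ P, ψ ⟨x, hx⟩ = π h.tH := by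
  classical
  obtain ⟨k, rfl, hk⟩ := hx
  obtain ⟨g, hg⟩ := isConj_iff.1 hk
  have hkk := h.sq_of_isConj hk
  have hsurj := phi_surj h hg P S hPx
  by_cases hkP : π k ∈ P
  · have hkpre : k ∈ pre π k P := (mem_pre P).2 ⟨rfl, hkP⟩
    obtain ⟨σ, hσ, hσ2⟩ := exists_section (phi π k P) hsurj hP (phi_ker_odd P h S)
      (z := ⟨k, hkpre⟩) (Subtype.ext (Subtype.ext hkk))
    refine ⟨(psi h hg P).comp σ, ?_, fun p => psi_comm h hg P _, ?_⟩
    · rw [injective_iff_map_eq_one]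
      intro p hp
      have h1 := psi_ker_odd h hg P S _ hp
      have h2 : σ p = 1 := by
        obtain ⟨n, hn⟩ := hP p
        have h3 : orderOf (σ p) ∣ 2 ^ n := orderOf_dvd_of_pow_eq_one (by rw [← map_pow, hn, map_one])
        obtain ⟨j, -, hj⟩ := (Nat.dvd_prime_pow Nat.prime_two).1 h3
        rw [hj] at h1
        rcases Nat.eq_zero_or_pos j with rfl | hpos
        · rw [pow_zero] at hj
          exact orderOf_eq_one_iff.1 hj
        · rw [← Nat.not_even_iff_odd] at h1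
          exact absurd (Nat.even_pow.2 ⟨even_two, hpos.ne'⟩) h1
      rw [← hσ p, h2, map_one]
    · intro hx
      have h1 : (⟨π k, hx⟩ : P) = phi π k P ⟨k, hkpre⟩ := rfl
      rw [MonoidHom.comp_apply, h1, hσ2]
      show π _ = π h.tH
      congr 1
      apply Subtype.ext
      show g⁻¹ * (k : G) * g⁻¹⁻¹ = t
      rw [← hg]
      group
  · obtain ⟨σ, hσ, -⟩ := exists_section (phi π k P) hsurj hP (phi_ker_odd P h S)
      (z := 1) (one_mul 1)
    refine ⟨(psi h hg P).comp σ, ?_, fun p => psi_comm h hg P _, fun hx => absurd hx hkP⟩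
    rw [injective_iff_map_eq_one]
    intro p hp
    have h1 := psi_ker_odd h hg P S _ hp
    have h2 : σ p = 1 := by
      obtain ⟨n, hn⟩ := hP p
      have h3 : orderOf (σ p) ∣ 2 ^ n := orderOf_dvd_of_pow_eq_one (by rw [← map_pow, hn, map_one])
      obtain ⟨j, -, hj⟩ := (Nat.dvd_prime_pow Nat.prime_two).1 h3
      rw [hj] at h1
      rcases Nat.eq_zero_or_pos j with rfl | hpos
      · rw [pow_zero] at hj
        exact orderOf_eq_one_iff.1 hj
      · rw [← Nat.not_even_iff_odd] at h1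
        exact absurd (Nat.even_pow.2 ⟨even_two, hpos.ne'⟩) h1
    rw [← hσ p, h2, map_one]

theorem DD_dvd [Finite G] (h : Cen 𝒜 t ι D) (S : Sec D _ π) {x : Γ} (hx : DD t π x)
    (X : Subgroup Γ) (hX : ∀ p ∈ X, p * x = x * p)
    (hN : ∀ N : Subgroup Γ, N ≤ X → (∀ p ∈ X, ∀ n ∈ N, p * n * p⁻¹ ∈ N) → Odd (Nat.card N) → N = ⊥) :
    Nat.card X ∣ Nat.card (Subgroup.centralizer ({π h.tH} : Set Γ)) := by
  classical
  obtain ⟨k, rfl, hk⟩ := hx
  obtain ⟨g, hg⟩ := isConj_iff.1 hk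
  have hsurj := phi_surj h hg X S hX
  have hfΓ : Finite Γ := Finite.of_surjective π S.surj
  have hle : (psi h hg X).ker ≤ (phi π k X).ker := by
    have hb : ((psi h hg X).ker).map (π.comp (pre π k X).subtype) = ⊥ := by
      apply hN
      · rintro _ ⟨a, -, rfl⟩
        exact ((mem_pre X).1 a.2).2
      · rintro p hp _ ⟨a, ha, rfl⟩
        obtain ⟨b, hb⟩ := hsurj ⟨p, hp⟩
        have hb' : π (b : Subgroup.normalizer (D : Set G)) = p := congrArg Subtype.val hb
        refine ⟨b * a * b⁻¹, ?_, ?_⟩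
        · exact (psi h hg X).normal_ker.conj_mem a ha b
        · show π _ = p * π _ * p⁻¹
          rw [← hb', ← map_inv, ← map_mul, ← map_mul]
          rfl
      · apply odd_card_of
        intro n
        rw [← Subgroup.orderOf_coe]
        obtain ⟨a, ha, h1⟩ := n.2
        rw [← h1]
        exact (psi_ker_odd h hg X S a ha).of_dvd_nat (orderOf_map_dvd _ a)
    intro a ha
    have h1 : π.comp (pre π k X).subtype a ∈ ((psi h hg X).ker).map (π.comp (pre π k X).subtype) :=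
      ⟨a, ha, rfl⟩
    rw [hb, Subgroup.mem_bot] at h1
    exact Subtype.ext h1
  have h1 := Subgroup.index_dvd_of_le hle
  rw [Subgroup.index_ker, Subgroup.index_ker, MonoidHom.range_eq_top.2 hsurj, Subgroup.card_top] at h1
  refine h1.trans (Subgroup.card_dvd_of_le ?_)
  rintro _ ⟨a, rfl⟩
  rw [Subgroup.mem_centralizer_singleton_iff]
  exact psi_comm h hg X a

theorem comm_of_pi (h : Cen 𝒜 t ι D) (S : Sec D _ π) {a : Subgroup.normalizer (D : Set G)}
    (ha : π a * π h.tH = π h.tH * π a) : (a : G) * t = t * a := by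
  obtain ⟨k, hk, hka⟩ := h.lift_comm S (a := h.tH) h.tt ha
  rw [S.eq_iff] at hka
  have h1 := h.Dt _ hka
  rw [h.tH_coe] at hk
  calc (a : G) * t = k * (((k : G)⁻¹ * a) * t) := by group
    _ = (k * t) * ((k : G)⁻¹ * a) := by rw [h1]; group
    _ = _ := by rw [hk]; group

/-- the preimage in `G` of a subgroup of `Γ` -/
def up (π : Subgroup.normalizer (D : Set G) →* Γ) (C : Subgroup Γ) : Subgroup G :=
  (C.comap π).map (Subgroup.subtype _)

theorem mem_up {C : Subgroup Γ} {a : G} : a ∈ up π C ↔ ∃ ha : a ∈ Subgroup.normalizer (D : Set G), π ⟨a, ha⟩ ∈ C := by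
  constructor
  · rintro ⟨b, hb, rfl⟩
    exact ⟨b.2, hb⟩
  · rintro ⟨ha, h⟩
    exact ⟨⟨a, ha⟩, h, rfl⟩

theorem mem_up' {C : Subgroup Γ} {a : Subgroup.normalizer (D : Set G)} : (a : G) ∈ up π C ↔ π a ∈ C := by
  rw [mem_up]
  exact ⟨fun ⟨_, h⟩ => h, fun h => ⟨a.2, h⟩⟩

theorem up_le {C₀ C : Subgroup Γ} (h : C₀ ≤ C) : up π C₀ ≤ up π C := by
  rintro _ ⟨b, hb, rfl⟩
  exact ⟨b, h hb, rfl⟩

theorem up_relIndex {C₀ C : Subgroup Γ} (S : Sec D _ π) (h : C₀.relIndex C = 2) :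
    (up π C₀).relIndex (up π C) = 2 := by
  rw [relIndex_two_iff] at h ⊢
  obtain ⟨x, hx, h1⟩ := h
  obtain ⟨a, rfl⟩ := S.surj x
  refine ⟨a, mem_up'.2 hx, ?_⟩
  intro b hb
  obtain ⟨hbH, hb'⟩ := mem_up.1 hb
  have h2 := h1 _ hb'
  rw [← map_mul, ← mem_up', ← mem_up'] at h2
  exact h2

theorem up_centralizer (h : Cen 𝒜 t ι D) (S : Sec D _ π) :
    up π (Subgroup.centralizer ({π h.tH} : Set Γ)) = Subgroup.centralizer ({t} : Set G) := by
  ext a
  rw [mem_up, Subgroup.mem_centralizer_singleton_iff]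
  constructor
  · rintro ⟨ha, h1⟩
    rw [Subgroup.mem_centralizer_singleton_iff] at h1
    exact h.comm_of_pi S h1
  · intro ha
    refine ⟨h.le_normalizer ha, ?_⟩
    rw [Subgroup.mem_centralizer_singleton_iff, ← map_mul, ← map_mul]
    congr 1
    exact Subtype.ext ha

theorem DD_even [Finite G] (hG : ∀ K : Subgroup G, K.index ≠ 2) (h : Cen 𝒜 t ι D) (S : Sec D _ π)
    (C₀ : Subgroup Γ) (hle : C₀ ≤ Subgroup.centralizer ({π h.tH} : Set Γ))
    (h2 : C₀.relIndex (Subgroup.centralizer ({π h.tH} : Set Γ)) = 2) :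
    Even (Nat.card {x : Γ // DD t π x ∧ x * π h.tH = π h.tH * x ∧ x ∉ C₀}) := by
  classical
  have hfΓ : Finite Γ := Finite.of_surjective π S.surj
  have e1 := (pd_of hG h.tt h.t_ne).even (up π C₀) (by
    rw [← h.up_centralizer S]; exact up_le hle) (by
    rw [← h.up_centralizer S]; exact up_relIndex S h2)
  have hH : ∀ a : {a : G // IsConj t a ∧ a * t = t * a ∧ a ∉ up π C₀},
      (a : G) ∈ Subgroup.normalizer (D : Set G) := fun a => h.le_normalizer a.2.2.1
  refine even_of_fibres (A := {a : G // IsConj t a ∧ a * t = t * a ∧ a ∉ up π C₀})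
    (fun a => ⟨π ⟨a, hH a⟩, ⟨⟨a, hH a⟩, rfl, a.2.1⟩, ?_, fun h1 => a.2.2.2 (mem_up.2 ⟨_, h1⟩)⟩) ?_ e1
  · rw [← map_mul, ← map_mul]
    congr 1
    exact Subtype.ext a.2.2.1
  · rintro ⟨x, ⟨k, hkx, hk⟩, hxt, hx0⟩
    subst hkx
    have hkk := h.sq_of_isConj hk
    have h3 : Odd (Nat.card {z : G // z ∈ D ∧ (k * z) * (k * z) = 1}) := by
      apply odd_card_inv
      · refine ⟨D.one_mem, ?_⟩
        rw [mul_one, hkk]
      · rintro z ⟨hz, h4⟩
        refine ⟨D.inv_mem hz, ?_⟩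
        have h5 : z * k * z = k := by
          calc z * k * z = (k : G)⁻¹ * (k * z * (k * z)) := by group
            _ = (k : G)⁻¹ * (k * k) := by rw [h4, hkk]
            _ = k := by group
        calc (k : G) * z⁻¹ * (k * z⁻¹) = k * (z⁻¹ * (z * k * z) * z⁻¹) := by rw [h5]; group
          _ = 1 := by rw [← hkk]; group
      · rintro z ⟨hz, -⟩ h4
        exact eq_one_of_sq (odd_orderOf h.odd hz) h4
    have hzH : ∀ z ∈ D, (k : G) * z ∈ Subgroup.normalizer (D : Set G) := fun z hz =>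
      Subgroup.mul_mem _ k.2 (Subgroup.le_normalizer hz)
    have hz1 : ∀ (z : G) (hz : z ∈ D), π ⟨(k : G) * z, hzH z hz⟩ = π k := by
      intro z hz
      symm
      rw [S.eq_iff]
      show (k : G)⁻¹ * (k * z) ∈ D
      rw [inv_mul_cancel_left]
      exact hz
    have hz2 : ∀ z : G, z ∈ D → (k * z) * (k * z) = 1 →
        IsConj t ((k : G) * z) ∧ (k : G) * z * t = t * (k * z) ∧ (k : G) * z ∉ up π C₀ := by
      intro z hz hzz
      refine ⟨?_, ?_, ?_⟩
      · obtain ⟨d, -, h5⟩ := h.conj_of_eq S hkk (b := ⟨(k : G) * z, hzH z hz⟩) hzz (hz1 z hz).symm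
        exact hk.trans (isConj_iff.2 ⟨d, h5⟩)
      · exact h.comm_of_pi S (a := ⟨(k : G) * z, hzH z hz⟩) (by rw [hz1 z hz]; exact hxt)
      · rw [mem_up]
        rintro ⟨_, h5⟩
        rw [hz1 z hz] at h5
        exact hx0 h5
    refine Eq.subst (motive := fun n => Odd n) (Nat.card_congr (Equiv.ofBijective
      (α := {z : G // z ∈ D ∧ (k * z) * (k * z) = 1})
      (fun z => ⟨⟨k * z.1, hz2 z.1 z.2.1 z.2.2⟩, Subtype.ext (hz1 z.1 z.2.1)⟩) ?_)) h3
    constructor
    · intro z z' hzz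
      have h5 : (k : G) * z = k * z' := congrArg (fun a => a.1.1) hzz
      exact Subtype.ext (mul_left_cancel h5)
    · rintro ⟨⟨a, ha⟩, h5⟩
      have h6 : π ⟨a, hH ⟨a, ha⟩⟩ = π k := congrArg Subtype.val h5
      have h7 : (k : G)⁻¹ * a ∈ D := (S.eq_iff _ _).1 h6.symm
      refine ⟨⟨(k : G)⁻¹ * a, h7, ?_⟩, ?_⟩
      · rw [mul_inv_cancel_left]
        exact h.sq_of_isConj ha.1
      · apply Subtype.ext
        apply Subtype.ext
        exact mul_inv_cancel_left _ _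

theorem DD_kill [Finite G] (hG : ∀ K : Subgroup G, K.index ≠ 2) (h : Cen 𝒜 t ι D) (S : Sec D _ π)
    (C₀ C : Subgroup Γ) (hle : C₀ ≤ C) (h2 : C₀.relIndex C = 2)
    (hcent : ∀ g, g * π h.tH = π h.tH * g → g ∈ C) (ht : π h.tH ∉ C₀)
    (hx : ∀ x ∈ C, x ∉ C₀ → DD t π x → ∃ c ∈ C, c * π h.tH * c⁻¹ = x) : False := by
  refine (pd_of hG h.tt h.t_ne).kill (up π C₀) (up π C) (up_le hle) (up_relIndex S h2) ?_ ?_ ?_
  · intro g hg
    refine mem_up.2 ⟨h.le_normalizer hg, hcent _ ?_⟩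
    rw [← map_mul, ← map_mul]
    congr 1
    exact Subtype.ext hg
  · intro h1
    exact ht ((mem_up' (a := h.tH)).1 h1)
  · intro x hxC hxC₀ hxt
    obtain ⟨hxH, hxC'⟩ := mem_up.1 hxC
    obtain ⟨c, hc, hcx⟩ := hx _ hxC' (fun h1 => hxC₀ (mem_up.2 ⟨hxH, h1⟩)) ⟨⟨x, hxH⟩, rfl, hxt⟩
    obtain ⟨b, rfl⟩ := S.surj c
    have hxx := h.sq_of_isConj hxt
    obtain ⟨d, hd, h3⟩ := h.conj_of_eq S (a := b * h.tH * b⁻¹) (b := ⟨x, hxH⟩) (by
      show (b : G) * t * (b : G)⁻¹ * ((b : G) * t * (b : G)⁻¹) = 1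
      calc (b : G) * t * (b : G)⁻¹ * ((b : G) * t * (b : G)⁻¹) = b * (t * t) * (b : G)⁻¹ := by group
        _ = 1 := by rw [h.tt]; group) hxx (by rw [map_mul, map_mul, map_inv]; exact hcx)
    refine ⟨d * b, ?_, ?_⟩
    · apply Subgroup.mul_mem _ _ (mem_up'.2 hc)
      refine mem_up.2 ⟨Subgroup.le_normalizer hd, ?_⟩
      rw [(S.ker _).2 hd]
      exact C.one_mem
    · rw [← show d * ((b : G) * t * (b : G)⁻¹) * d⁻¹ = x from h3]
      group

/-- **The oracle of `Γ`.** -/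
theorem pd [Finite G] (hG : ∀ K : Subgroup G, K.index ≠ 2) (h : Cen 𝒜 t ι D) (F : MFacts 𝒜)
    (S : Sec D _ π) : PD (π h.tH) (h.inn π) (DD t π) where
  mem := ⟨h.tH, rfl, IsConj.refl t⟩
  conj := by
    rintro _ g ⟨k, rfl, hk⟩
    obtain ⟨a, rfl⟩ := S.surj g
    refine ⟨a * k * a⁻¹, by rw [map_mul, map_mul, map_inv], ?_⟩
    exact hk.trans (isConj_iff.2 ⟨a, rfl⟩)
  sq := by
    rintro _ ⟨k, rfl, hk⟩
    have : k * k = 1 := Subtype.ext (h.sq_of_isConj hk)
    rw [← map_mul, this, map_one]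
  ne := by
    rintro _ ⟨k, rfl, hk⟩ h1
    have h2 := (S.ker k).1 h1
    have h3 := eq_one_of_sq (odd_orderOf h.odd h2) (h.sq_of_isConj hk)
    rw [h3] at hk
    obtain ⟨g, hg⟩ := isConj_iff.1 hk
    apply h.t_ne
    rwa [mul_inv_eq_one, mul_eq_left] at hg
  comm := fun x hx _ hi => h.DD_comm F S hx hi
  emb := fun x hx P hP hPx => h.DD_emb S hx P hP hPx
  dvd := fun x hx X hX hN => h.DD_dvd S hx X hX hN
  even := fun C₀ hle h2 => h.DD_even hG S C₀ hle h2
  kill := fun C₀ C hle h2 hc ht hx => h.DD_kill hG S C₀ C hle h2 hc ht hx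

end Cen

end Cfsg.Agent.CoThreeStd.Core
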