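import Cfsg.Agent.CoThreeStd.Core.Main
import Cfsg.Agent.CoThreeStd.NonSplit

/-!
# S1750: inner case, split outer case, non-split outer case (helper122)
-/

set_option autoImplicit false

namespace Cfsg.Agent.CoThreeStd.Core

open Cfsg Cfsg.Agent.CoThreeStd.MTwelve Cfsg.Agent.CoThreeStd.Fusion Cfsg.Agent.CoThreeStd.OutAut
  Cfsg.Agent.CoThreeStd.OutCtx

universe u

/-- [R2]: the case `C(t) = ⟨t⟩ × M₁₂:2` is impossible. -/
def OuterDead : Prop :=
  ∀ {Γ : Type u} [Group Γ] [Finite Γ] {t c : Γ} {f : H →* Γ} {𝒟 : Γ → Prop} (_ : CtxO t c f)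
    (_ : PD t (fun x => ∃ m, x = f m ∨ x = t * f m) 𝒟), False

/-- [NS]: in the non-split case `t` is isolated. -/
def NonSplitIso : Prop :=
  ∀ {Γ : Type u} [Group Γ] [Finite Γ] {t o : Γ} {f : H →* Γ} (_ : NonSplit.CtxZ t o f) (m : H),
    ¬ IsConj t (f m) ∧ (m ≠ 1 → ¬ IsConj t (t * f m))

theorem conj_aux {G : Type*} [Group G] {a b x : G} (h : b * x = x * b) :
    a * b * x * (a * b)⁻¹ = a * x * a⁻¹ := by
  calc a * b * x * (a * b)⁻¹ = a * (b * x) * b⁻¹ * a⁻¹ := by group
    _ = _ := by rw [h]; group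

section

variable {𝒜 : (H ≃* H) → Prop} {G : Type u} [Group G] {t : G} {ι : H →* G} {D : Subgroup G} {Γ : Type u} [Group Γ]
  {π : Subgroup.normalizer (D : Set G) →* Γ}

theorem form_of_inner (h : Cen 𝒜 t ι D) {g : G} (hg : g * t = t * g) {m : H}
    (hm : ∀ x, g * ι x * g⁻¹ = ι (m * x * m⁻¹)) :
    ∃ d ∈ D, g = d * ι m ∨ g = d * (t * ι m) := by
  have h1 : ∀ x, g * ι m⁻¹ * ι x = ι x * (g * ι m⁻¹) := by
    intro x
    have key : ∀ z, g * ι z = ι (m * z * m⁻¹) * g := by
      intro z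
      rw [← hm]
      group
    calc g * ι m⁻¹ * ι x = g * ι (m⁻¹ * x) := by rw [mul_assoc, ← map_mul]
      _ = ι (x * m⁻¹) * g := by rw [key]; congr 2; group
      _ = ι x * (ι (m * m⁻¹ * m⁻¹) * g) := by
        rw [mul_inv_cancel, one_mul, ← mul_assoc, ← map_mul]
      _ = _ := by rw [← key]
  have h2 : g * ι m⁻¹ * t = t * (g * ι m⁻¹) := by
    rw [mul_assoc, h.comm, ← mul_assoc, hg, mul_assoc]
  have e1 : ι m⁻¹ * ι m = 1 := by rw [← map_mul, inv_mul_cancel, map_one]
  rcases h.ker _ h2 h1 with h3 | h3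
  · exact ⟨_, h3, Or.inl (by rw [mul_assoc, e1, mul_one])⟩
  · refine ⟨_, h3, Or.inr ?_⟩
    rw [← h2]
    calc g = g * (ι m⁻¹ * ι m) * (t * t) := by rw [e1, h.tt, mul_one, mul_one]
      _ = g * ι m⁻¹ * (ι m * t) * t := by simp only [mul_assoc]
      _ = g * ι m⁻¹ * (t * ι m) * t := by rw [h.comm]
      _ = g * ι m⁻¹ * t * (ι m * t) := by simp only [mul_assoc]
      _ = _ := by rw [h.comm]

/-- image in `Γ` -/
theorem pi_form (h : Cen 𝒜 t ι D) (S : Sec D _ π) {k : Subgroup.normalizer (D : Set G)} {m : H}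
    (hk : ∃ d ∈ D, (k : G) = d * ι m ∨ (k : G) = d * (t * ι m)) :
    π k = π.comp h.ιH m ∨ π k = π h.tH * π.comp h.ιH m := by
  obtain ⟨d, hd, h1⟩ := hk
  have hdH : d ∈ Subgroup.normalizer (D : Set G) := Subgroup.le_normalizer hd
  have hd1 : π ⟨d, hdH⟩ = 1 := (S.ker _).2 hd
  rcases h1 with h1 | h1
  · left
    have : k = ⟨d, hdH⟩ * h.ιH m := Subtype.ext h1
    rw [this, map_mul, hd1, one_mul, MonoidHom.comp_apply]
  · right
    have : k = ⟨d, hdH⟩ * (h.tH * h.ιH m) := Subtype.ext h1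
    rw [this, map_mul, hd1, one_mul, map_mul, MonoidHom.comp_apply]

/-- the outer element -/
theorem exists_outer (h : Cen Aall t ι D) (hn : ¬ Cen Ain t ι D) :
    ∃ c : G, c * t = t * c ∧ (∀ x, c * ι x * c⁻¹ = ι (alpha x)) ∧ (c * c = 1 ∨ c * c = t) := by
  have h1 : ∃ g : G, g * t = t * g ∧ ∃ m : H, ∀ x, g * ι x * g⁻¹ = ι (m * alpha x * m⁻¹) := by
    by_contra hcon
    push Not at hcon
    apply hn
    refine { h with act := ?_ }
    intro g hg
    obtain ⟨τ, hA | ⟨m, hm⟩, hτ⟩ := h.act g hg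
    · exact ⟨τ, hA, hτ⟩
    · exfalso
      obtain ⟨x, hx⟩ := hcon g hg m
      exact hx (by rw [hτ, hm])
  obtain ⟨g, hg, m, hm⟩ := h1
  obtain ⟨c1, hc1⟩ : ∃ c1, c1 = ι m⁻¹ * g := ⟨_, rfl⟩
  have c1t : c1 * t = t * c1 := by rw [hc1, mul_assoc, hg, ← mul_assoc, h.comm, mul_assoc]
  have c1a : ∀ x, c1 * ι x * c1⁻¹ = ι (alpha x) := by
    intro x
    rw [hc1]
    calc ι m⁻¹ * g * ι x * (ι m⁻¹ * g)⁻¹ = ι m⁻¹ * (g * ι x * g⁻¹) * (ι m⁻¹)⁻¹ := by group
      _ = ι (alpha x) := by rw [hm, ← map_inv, ← map_mul, ← map_mul]; congr 1; group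
  have c2t : c1 * c1 * t = t * (c1 * c1) := by rw [mul_assoc, c1t, ← mul_assoc, c1t, mul_assoc]
  have c2a : ∀ x, c1 * c1 * ι x = ι x * (c1 * c1) := by
    intro x
    have : c1 * c1 * ι x * (c1 * c1)⁻¹ = ι x := by
      calc c1 * c1 * ι x * (c1 * c1)⁻¹ = c1 * (c1 * ι x * c1⁻¹) * c1⁻¹ := by group
        _ = ι x := by rw [c1a, c1a, alpha_alpha]
    calc c1 * c1 * ι x = c1 * c1 * ι x * (c1 * c1)⁻¹ * (c1 * c1) := by group
      _ = _ := by rw [this]
  obtain ⟨k, hk⟩ := h.odd
  have hpow : ∀ d ∈ D, d ^ (2 * k + 1) = 1 := by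
    intro d hd
    have : (⟨d, hd⟩ : D) ^ Nat.card D = 1 := pow_card_eq_one'
    rw [hk] at this
    exact congrArg Subtype.val this
  have hact : ∀ j : ℕ, ∀ x, c1 ^ (2 * j + 1) * ι x * (c1 ^ (2 * j + 1))⁻¹ = ι (alpha x) := by
    intro j
    induction j with
    | zero => intro x; rw [mul_zero, zero_add, pow_one]; exact c1a x
    | succ j ih =>
      intro x
      have e : c1 ^ (2 * (j + 1) + 1) = c1 ^ (2 * j + 1) * (c1 * c1) := by
        rw [show 2 * (j + 1) + 1 = (2 * j + 1) + 2 by ring, pow_add, pow_two]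
      rw [e, conj_aux (c2a x)]
      exact ih x
  refine ⟨c1 ^ (2 * k + 1), ?_, hact k, ?_⟩
  · exact (show Commute (c1) t from c1t).pow_left _
  · have e : c1 ^ (2 * k + 1) * c1 ^ (2 * k + 1) = (c1 * c1) ^ (2 * k + 1) := by
      rw [← (Commute.refl c1).mul_pow]
    rw [e]
    rcases h.ker _ c2t c2a with h3 | h3
    · left; exact hpow _ h3
    · right
      have e2 : c1 * c1 = t * (t * (c1 * c1)) := by rw [← mul_assoc, h.tt, one_mul]
      have hc : Commute t (t * (c1 * c1)) := (h.Dt _ h3).symm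
      rw [e2, hc.mul_pow, hpow _ h3, mul_one, pow_succ, pow_mul, pow_two, h.tt, one_pow, one_mul]

theorem sec_inj (h : Cen Aall t ι D) (S : Sec D _ π) : Function.Injective (π.comp h.ιH) := by
  rw [injective_iff_map_eq_one]
  intro m hm
  exact h.eq_one_of_mem mfacts_all ((S.ker _).1 hm)

theorem sec_tt (h : Cen Aall t ι D) : π h.tH * π h.tH = 1 := by
  rw [← map_mul]
  have : h.tH * h.tH = 1 := Subtype.ext h.tt
  rw [this, map_one]

theorem sec_t_ne (h : Cen Aall t ι D) (S : Sec D _ π) : π h.tH ≠ 1 := fun h1 => h.t_notMem ((S.ker _).1 h1)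

theorem sec_comm (h : Cen Aall t ι D) (m : H) : π.comp h.ιH m * π h.tH = π h.tH * π.comp h.ιH m := by
  rw [MonoidHom.comp_apply, ← map_mul, ← map_mul]
  congr 1
  exact Subtype.ext (h.comm m)

theorem sec_nmem (h : Cen Aall t ι D) (S : Sec D _ π) (m : H) : π.comp h.ιH m ≠ π h.tH := by
  intro h1
  rw [MonoidHom.comp_apply, S.eq_iff] at h1
  apply h.eq_one_of_mem_t mfacts_all (m := m⁻¹)
  rw [← h.comm, map_inv]
  exact h1

/-- the elements of `C(t)` -/
theorem form_all (h : Cen Aall t ι D) {c : G} (hct : c * t = t * c)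
    (hca : ∀ x, c * ι x * c⁻¹ = ι (alpha x)) {g : G} (hg : g * t = t * g) :
    (∃ m, ∃ d ∈ D, g = d * ι m ∨ g = d * (t * ι m)) ∨
      ∃ m, ∃ d ∈ D, c⁻¹ * g = d * ι m ∨ c⁻¹ * g = d * (t * ι m) := by
  obtain ⟨τ, ⟨m, hm⟩ | ⟨m, hm⟩, hτ⟩ := h.act g hg
  · left
    exact ⟨m, form_of_inner h hg (fun x => by rw [hτ, hm])⟩
  · right
    have hct' : c⁻¹ * t = t * c⁻¹ := by
      calc c⁻¹ * t = c⁻¹ * (t * c) * c⁻¹ := by group
        _ = c⁻¹ * (c * t) * c⁻¹ := by rw [hct]
        _ = t * c⁻¹ := by group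
    refine ⟨alpha m, form_of_inner h (by rw [mul_assoc, hg, ← mul_assoc, hct', mul_assoc]) (fun x => ?_)⟩
    have e1 : c⁻¹ * g * ι x * (c⁻¹ * g)⁻¹ = c⁻¹ * ι (m * alpha x * m⁻¹) * c := by
      rw [← hm, ← hτ]; group
    have e2 : m * alpha x * m⁻¹ = alpha (alpha m * x * (alpha m)⁻¹) := by
      rw [map_mul, map_mul, map_inv, alpha_alpha]
    rw [e1, e2, ← hca]
    group

theorem cent4 (h : Cen Aall t ι D) (S : Sec D _ π) {c : Subgroup.normalizer (D : Set G)}
    (hct : (c : G) * t = t * c) (hca : ∀ x, (c : G) * ι x * (c : G)⁻¹ = ι (alpha x)) {x : Γ}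
    (hx : x * π h.tH = π h.tH * x) : ∃ m, x = π.comp h.ιH m ∨ x = π h.tH * π.comp h.ιH m ∨
      x = π c * π.comp h.ιH m ∨ x = π h.tH * (π c * π.comp h.ιH m) := by
  obtain ⟨k, hk, rfl⟩ := h.lift_comm S (a := h.tH) h.tt hx
  rcases form_all h hct hca hk with ⟨m, h1⟩ | ⟨m, h1⟩
  · rcases pi_form h S h1 with h2 | h2
    · exact ⟨m, Or.inl h2⟩
    · exact ⟨m, Or.inr (Or.inl h2)⟩
  · have h3 := pi_form h S (k := c⁻¹ * k) h1
    rw [map_mul, map_inv] at h3
    rcases h3 with h2 | h2
    · exact ⟨m, Or.inr (Or.inr (Or.inl (by rw [← h2, mul_inv_cancel_left])))⟩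
    · refine ⟨m, Or.inr (Or.inr (Or.inr ?_))⟩
      have hct' : π c * π h.tH = π h.tH * π c := by
        rw [← map_mul, ← map_mul]
        congr 1
        exact Subtype.ext hct
      rw [← mul_assoc, ← hct', mul_assoc, ← h2, mul_inv_cancel_left]

theorem ctxO_sec (h : Cen Aall t ι D) (S : Sec D _ π) {c : Subgroup.normalizer (D : Set G)}
    (hct : (c : G) * t = t * c) (hca : ∀ x, (c : G) * ι x * (c : G)⁻¹ = ι (alpha x))
    (hcc : (c : G) * c = 1) : CtxO (π h.tH) (π c) (π.comp h.ιH) where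
  inj := sec_inj h S
  tt := sec_tt h
  t_ne := sec_t_ne h S
  comm := sec_comm h
  nmem := sec_nmem h S
  cc := by
    have : c * c = 1 := Subtype.ext hcc
    rw [← map_mul, this, map_one]
  ct := by
    rw [← map_mul, ← map_mul]
    congr 1
    exact Subtype.ext hct
  act := by
    intro m
    rw [MonoidHom.comp_apply, MonoidHom.comp_apply, ← map_inv, ← map_mul, ← map_mul]
    congr 1
    exact Subtype.ext (hca m)
  cent := fun g hg => cent4 h S hct hca hg

theorem ctxZ_sec (h : Cen Aall t ι D) (S : Sec D _ π) {c : Subgroup.normalizer (D : Set G)}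
    (hct : (c : G) * t = t * c) (hca : ∀ x, (c : G) * ι x * (c : G)⁻¹ = ι (alpha x))
    (hcc : (c : G) * c = t) : NonSplit.CtxZ (π h.tH) (π c) (π.comp h.ιH) where
  inj := sec_inj h S
  tt := sec_tt h
  t_ne := sec_t_ne h S
  nmem := sec_nmem h S
  oo := by
    have : c * c = h.tH := Subtype.ext hcc
    rw [← map_mul, this]
  act := by
    intro m
    rw [MonoidHom.comp_apply, MonoidHom.comp_apply, ← map_inv, ← map_mul, ← map_mul]
    congr 1
    exact Subtype.ext (hca m)
  cent := fun g hg => cent4 h S hct hca hg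

/-- involutions of `D × ⟨t⟩ × ι M` are in `⟨t⟩ × ι M` -/
theorem inv_form (h : Cen Aall t ι D) {s : G} (hss : s * s = 1) {m : H} {d : G} (hd : d ∈ D)
    (hs : s = d * ι m ∨ s = d * (t * ι m)) : s = ι m ∨ s = t * ι m := by
  have hdm := h.DM d hd m
  have hdt := h.Dt d hd
  have htm := h.comm m
  have key : d * d * ι (m * m) = 1 := by
    rcases hs with rfl | rfl
    · calc d * d * ι (m * m) = d * (d * ι m) * ι m := by rw [map_mul]; group
        _ = d * (ι m * d) * ι m := by rw [hdm]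
        _ = d * ι m * (d * ι m) := by group
        _ = 1 := hss
    · calc d * d * ι (m * m) = d * (d * ι m) * ι m := by rw [map_mul]; group
        _ = d * (ι m * d) * ι m := by rw [hdm]
        _ = d * ι m * (d * ι m) := by group
        _ = (t * t) * (d * ι m * (d * ι m)) := by rw [h.tt, one_mul]
        _ = t * (t * d) * ι m * (d * ι m) := by group
        _ = t * (d * t) * ι m * (d * ι m) := by rw [hdt]
        _ = t * d * (t * ι m) * (d * ι m) := by group
        _ = t * d * (ι m * t) * (d * ι m) := by rw [htm]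
        _ = t * d * ι m * (t * d) * ι m := by group
        _ = t * d * ι m * (d * t) * ι m := by rw [hdt]
        _ = (t * d) * ι m * (d * (t * ι m)) := by group
        _ = (d * t) * ι m * (d * (t * ι m)) := by rw [hdt]
        _ = d * (t * ι m) * (d * (t * ι m)) := by group
        _ = 1 := hss
  have h1 : ι (m * m) ∈ D := by
    have : ι (m * m) = (d * d)⁻¹ := (inv_eq_of_mul_eq_one_right key).symm
    rw [this]
    exact D.inv_mem (D.mul_mem hd hd)
  have h2 := h.eq_one_of_mem mfacts_all h1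
  rw [h2, map_one, mul_one] at key
  have h3 := eq_one_of_sq (odd_orderOf h.odd hd) key
  rwa [h3, one_mul, one_mul] at hs

/-- in the non-split case `t` is isolated in `C_G(t)` -/
theorem isolated_of_ns [Finite G] (hZ : NonSplitIso.{u}) (h : Cen Aall t ι D) {c : G} (hct : c * t = t * c)
    (hca : ∀ x, c * ι x * c⁻¹ = ι (alpha x)) (hcc : c * c = t) {s : G} (hs : IsConj t s)
    (hst : s * t = t * s) : s = t := by
  have S := sec_mk D
  set π := QuotientGroup.mk' (D.subgroupOf (Subgroup.normalizer (D : Set G))) with hπ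
  set cH : Subgroup.normalizer (D : Set G) := ⟨c, h.le_normalizer hct⟩ with hcH
  have cz := ctxZ_sec h S (c := cH) hct hca hcc
  have hss := h.sq_of_isConj hs
  have inner : ∃ m, s = ι m ∨ s = t * ι m := by
    rcases form_all h hct hca hst with ⟨m, d, hd, h1⟩ | ⟨m, h1⟩
    · exact ⟨m, inv_form h hss hd h1⟩
    · exfalso
      -- `s = c (..)` is not an involution
      have h2 := pi_form h S (k := cH⁻¹ * ⟨s, h.le_normalizer hst⟩) h1
      set x := π ⟨s, h.le_normalizer hst⟩ with hx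
      have hxx : x * x = 1 := by
        rw [hx, ← map_mul]
        have : (⟨s, h.le_normalizer hst⟩ : Subgroup.normalizer (D : Set G)) * ⟨s, h.le_normalizer hst⟩ = 1 :=
          Subtype.ext hss
        rw [this, map_one]
      rw [map_mul, map_inv, ← hx] at h2
      set o := π cH with ho
      set f := π.comp h.ιH with hf
      set τ := π h.tH with hτ
      have oo : o * o = τ := cz.oo
      have tt : τ * τ = 1 := cz.tt
      have ot : o * τ = τ * o := by rw [← oo, mul_assoc]
      have of : ∀ n, f n * o = o * f (alpha n) := by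
        intro n
        have := cz.act (alpha n)
        rw [alpha_alpha] at this
        rw [← this]; group
      have sq : (o * f m) * (o * f m) = τ * f (alpha m * m) := by
        calc (o * f m) * (o * f m) = o * (f m * o) * f m := by group
          _ = o * o * (f (alpha m) * f m) := by rw [of]; group
          _ = _ := by rw [oo, map_mul]
      have hne : τ * f (alpha m * m) ≠ 1 := by
        intro h3
        apply cz.nmem (alpha m * m)
        calc f (alpha m * m) = τ * (τ * f (alpha m * m)) := by rw [← mul_assoc, tt, one_mul]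
          _ = τ := by rw [h3, mul_one]
      apply hne
      rw [← sq]
      rcases h2 with h2 | h2
      · have : x = o * f m := by rw [← h2, mul_inv_cancel_left]
        rw [← this, hxx]
      · have h3 : x = τ * (o * f m) := by
          have : x = o * (τ * f m) := by rw [← h2, mul_inv_cancel_left]
          rw [this, ← mul_assoc, ot, mul_assoc]
        have h4 : Commute τ (o * f m) := by
          show τ * (o * f m) = o * f m * τ
          rw [mul_assoc, cz.comm, ← mul_assoc, ← ot, mul_assoc]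
        calc (o * f m) * (o * f m) = (τ * τ) * ((o * f m) * (o * f m)) := by rw [tt, one_mul]
          _ = τ * (τ * (o * f m)) * (o * f m) := by group
          _ = τ * (o * f m * τ) * (o * f m) := by rw [h4.eq]
          _ = x * x := by rw [h3]; group
          _ = 1 := hxx
  obtain ⟨g, hg⟩ := isConj_iff.1 hs
  have hgN : g ∈ Subgroup.normalizer (D : Set G) := by
    apply h.balance mfacts_all
    rw [hg]
    exact inner
  obtain ⟨m, h1 | h1⟩ := inner
  · exfalso
    apply (hZ cz m).1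
    refine isConj_iff.2 ⟨π ⟨g, hgN⟩, ?_⟩
    rw [← map_inv, ← map_mul, ← map_mul, MonoidHom.comp_apply]
    congr 1
    exact Subtype.ext (hg.trans h1)
  · by_cases hm : m = 1
    · rw [h1, hm, map_one, mul_one]
    · exfalso
      apply (hZ cz m).2 hm
      refine isConj_iff.2 ⟨π ⟨g, hgN⟩, ?_⟩
      rw [← map_inv, ← map_mul, ← map_mul, MonoidHom.comp_apply, ← map_mul]
      congr 1
      exact Subtype.ext (hg.trans h1)

/-- **All cases.** -/
theorem isoCo3_of_all [Finite G] [IsSimpleGroup G] (hG : ∀ K : Subgroup G, K.index ≠ 2)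
    (hβ : BetaIso.{u}) (hO : OuterDead.{u}) (hZ : NonSplitIso.{u}) (h : Cen Aall t ι D)
    (hiso : ∃ s, IsConj t s ∧ s * t = t * s ∧ s ≠ t) : Spor.IsoCo3 G := by
  by_cases hin : Cen Ain t ι D
  · exact isoCo3_of_cen hG hβ hin
  · exfalso
    obtain ⟨c, hct, hca, hcc | hcc⟩ := exists_outer h hin
    · have S := sec_mk D
      have ct := ctxO_sec h S (c := ⟨c, h.le_normalizer hct⟩) hct hca hcc
      exact hO ct (h.pd hG mfacts_all S)
    · obtain ⟨s, hs, hst, hne⟩ := hiso
      exact hne (isolated_of_ns hZ h hct hca hcc hs hst)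

end

end Cfsg.Agent.CoThreeStd.Core
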